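import Cfsg.Agent.Lib.Geo.SLTwoGenerate
import Cfsg.Agent.Lib.Lie.BinaryPSL.Positive

/-!
# Generation of `SL₂` in characteristic two by a root element and a small root group
-/

set_option autoImplicit false

namespace CfsgLib.Lie.SpFourEven

open Matrix CfsgLib.Classical CfsgLib.Classical.Dickson CfsgLib.Geo.SLTwoGen
open scoped MatrixGroups LinearAlgebra.Projectivization commutatorElement

variable {F : Type*} [Field F]

theorem eq_top_of_root_groups_two [Fintype F] (F₀ : Subfield F) {r : ℕ} (hr : r.Prime)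
    (hcard : Fintype.card F = Nat.card F₀ ^ r) (L : Subgroup SL(2, F)) {a : F} (ha : a ≠ 0) (hU : up a ∈ L)
    (B : AddSubgroup F) (hB₀ : ∀ c ∈ F₀, ∀ b ∈ B, c * b ∈ B) (hBL : ∀ b ∈ B, lo b ∈ L)
    (hBc : Nat.card F₀ ^ 2 ≤ Nat.card B) (h20 : (2 : F) = 0) : L = ⊤ := by
  classical
  obtain ⟨p, hp⟩ := CharP.exists F
  have : Fact p.Prime := ⟨CharP.char_is_prime F p⟩
  obtain ⟨f, hf, hq⟩ := exists_card_eq_prime_pow (F := F) p
  have hk2 : 2 ≤ Nat.card F₀ := Finite.one_lt_card
  have hp2' : p = 2 := (Nat.prime_dvd_prime_iff_eq Fact.out Nat.prime_two).1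
    ((CharP.cast_eq_zero_iff F p 2).1 (by exact_mod_cast h20))
  subst hp2'
  obtain ⟨k, hk, hBk⟩ : ∃ k, k ≤ f ∧ Nat.card B = 2 ^ k := by
    have h1 := AddSubgroup.card_addSubgroup_dvd_card B
    rw [Nat.card_eq_fintype_card (α := F), hq] at h1
    exact (Nat.dvd_prime_pow Nat.prime_two).1 h1
  have h4 : 4 ≤ 2 ^ k := by
    rw [← hBk]
    exact le_trans (Nat.pow_le_pow_left hk2 2) hBc
  set π := QuotientGroup.mk' (Subgroup.center SL(2, F)) with hπ
  set H : Subgroup (ProjectiveSpecialLinearGroup (Fin 2) F) := L.map π with hH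
  have hmem : ∀ A ∈ L, ((A : SL(2, F)) : ProjectiveSpecialLinearGroup (Fin 2) F) ∈ H := fun A hA => ⟨A, hA, rfl⟩
  -- the lower root group inside `H`
  let ψ : Multiplicative B →* H :=
    { toFun := fun b => ⟨((lo ((Multiplicative.toAdd b : B) : F) : SL(2, F)) : ProjectiveSpecialLinearGroup (Fin 2) F),
        hmem _ (hBL _ (Multiplicative.toAdd b).2)⟩
      map_one' := Subtype.ext (by
        show ((lo (0 : F) : SL(2, F)) : ProjectiveSpecialLinearGroup (Fin 2) F) = 1
        rw [show lo (0 : F) = 1 from Subtype.ext (by simp [lo, Matrix.one_fin_two])]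
        rfl)
      map_mul' := fun b c => Subtype.ext (by
        show ((lo (((Multiplicative.toAdd b : B) : F) + ((Multiplicative.toAdd c : B) : F)) : SL(2, F)) :
          ProjectiveSpecialLinearGroup (Fin 2) F) = _
        rw [← lo_mul]
        rfl) }
  have hψ : Function.Injective ψ := by
    rw [injective_iff_map_eq_one]
    intro b hb
    have h1 : ((lo ((Multiplicative.toAdd b : B) : F) : SL(2, F)) : ProjectiveSpecialLinearGroup (Fin 2) F) = 1 :=
      congrArg Subtype.val hb
    rw [QuotientGroup.eq_one_iff, Subgroup.mem_center_iff] at h1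
    have h2 := congrArg (fun A : SL(2, F) => (A : Matrix (Fin 2) (Fin 2) F) 1 1) (h1 (up 1))
    simp only [Matrix.SpecialLinearGroup.coe_mul] at h2
    simp [up, lo, Matrix.mul_apply, Fin.sum_univ_two] at h2
    exact Multiplicative.toAdd.injective (Subtype.ext (by simpa using h2))
  have hdvd : 2 ^ k ∣ Nat.card H := by
    rw [← hBk]
    exact (Nat.card_congr (Multiplicative.ofAdd (α := B))).symm ▸ Subgroup.card_dvd_of_injective ψ hψ
  have hpdvd : 2 ∣ Nat.card H := by
    refine (dvd_pow_self 2 ?_).trans hdvd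
    rintro rfl
    simp at h4
  have hnsc : ∀ b ∈ B, b ≠ 0 →
      ¬ Commute ((up a : SL(2, F)) : ProjectiveSpecialLinearGroup (Fin 2) F) ((lo b : SL(2, F)) : ProjectiveSpecialLinearGroup (Fin 2) F) := by
    intro b _ hb0 hc
    rcases CfsgLib.Lie.BinaryPSL.pr_commute hc with e | e <;>
      have h := congrArg (fun A : SL(2, F) => (A : Matrix (Fin 2) (Fin 2) F) 0 0) e <;>
      (simp only [Matrix.SpecialLinearGroup.coe_mul, Matrix.SpecialLinearGroup.coe_neg] at h
       simp [up, lo, Matrix.mul_apply, Fin.sum_univ_two] at h)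
    all_goals first
      | exact h.elim ha hb0
      | exact mul_ne_zero ha hb0 (by linear_combination h - h20)
      | exact mul_ne_zero ha hb0 (by linear_combination h)
  have hHtop : H = ⊤ := by
    rcases subgroup_cases_conj 2 hq H with ⟨-, h, -⟩ | ⟨-, x, hx⟩ | ⟨n, hn, hpn, -, ⟨e⟩⟩ | ⟨⟨e⟩⟩ | ⟨⟨e⟩⟩ |
      ⟨⟨e⟩⟩ | ⟨K, g, hK3, hcase⟩
    · exact absurd hpdvd h
    · exfalso
      induction x using Projectivization.ind with | h v hv => ?_
      obtain ⟨b, hb, hb0⟩ : ∃ b ∈ B, b ≠ 0 := by
        by_contra! hc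
        have : B = ⊥ := (AddSubgroup.eq_bot_iff_forall B).2 hc
        rw [this] at hBk
        simp at hBk
        omega
      have key : ∀ A ∈ L, ∃ c : F, (A : Matrix (Fin 2) (Fin 2) F) *ᵥ v = c • v := by
        intro A hA
        have h1 := hx _ (hmem A hA)
        obtain ⟨c, hc⟩ := (Projectivization.mk_eq_mk_iff' F _ _ _ _).1 h1
        exact ⟨c, hc.symm⟩
      obtain ⟨c, hc⟩ := key _ hU
      obtain ⟨d, hd⟩ := key _ (hBL b hb)
      have c0 := congrFun hc 0
      have c1 := congrFun hc 1
      have d1 := congrFun hd 1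
      simp [up, Matrix.mulVec, dotProduct, Fin.sum_univ_two] at c0 c1
      simp [lo, Matrix.mulVec, dotProduct, Fin.sum_univ_two] at d1
      have hv1 : v 1 = 0 := by
        by_contra h0
        have : c = 1 := mul_right_cancel₀ h0 (by rw [one_mul]; exact c1.symm)
        rw [this, one_mul, add_eq_left] at c0
        exact h0 ((mul_eq_zero.1 c0).resolve_left ha)
      rw [hv1, mul_zero, add_zero] at d1
      have hv0 : v 0 = 0 := (mul_eq_zero.1 d1).resolve_left hb0
      exact hv (funext fun i => by fin_cases i <;> assumption)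
    · exfalso
      rw [Nat.card_congr e.toEquiv, DihedralGroup.nat_card] at hdvd
      have hcop : Nat.Coprime (2 ^ k) n := Nat.Coprime.pow_left _ ((Nat.Prime.coprime_iff_not_dvd Nat.prime_two).2 hpn)
      have := Nat.le_of_dvd two_pos (hcop.dvd_of_dvd_mul_right hdvd)
      omega
    · exfalso
      obtain ⟨b, hb, hb0⟩ : ∃ b ∈ B, b ≠ 0 := by
        by_contra! hc
        rw [(AddSubgroup.eq_bot_iff_forall B).2 hc] at hBk
        simp at hBk
        omega
      have key : ∀ x y : alternatingGroup (Fin 4), x ^ 2 = 1 → y ^ 2 = 1 → x * y = y * x := by decide +kernel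
      have sq1 : ∀ (A : SL(2, F)) (hA : A ∈ L), A ^ 2 = 1 →
          (e ⟨((A : SL(2, F)) : ProjectiveSpecialLinearGroup (Fin 2) F), hmem A hA⟩) ^ 2 = 1 := fun A hA h1 => by
        rw [← map_pow, ← map_one e]
        exact congrArg e (Subtype.ext (congrArg (QuotientGroup.mk' (Subgroup.center SL(2, F))) h1))
      have u2 : (up a : SL(2, F)) ^ 2 = 1 := Subtype.ext (by
        rw [pow_two, Matrix.SpecialLinearGroup.coe_mul]
        ext i j
        fin_cases i <;> fin_cases j <;> simp [up, Matrix.mul_apply, Fin.sum_univ_two]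
        linear_combination a * h20)
      have l2 : (lo b : SL(2, F)) ^ 2 = 1 := by
        rw [pow_two, lo_mul, show b + b = 0 by linear_combination b * h20]
        exact Subtype.ext (by simp [lo, Matrix.one_fin_two])
      have hc := key _ _ (sq1 _ hU u2) (sq1 _ (hBL b hb) l2)
      rw [← map_mul, ← map_mul] at hc
      exact hnsc b hb hb0 (congrArg Subtype.val (e.injective hc))
    · exfalso
      obtain ⟨z, hz⟩ : ∃ z : Equiv.Perm (Fin 4), z ^ 4 = 1 ∧ z ^ 2 ≠ 1 := ⟨finRotate 4, by decide +kernel⟩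
      obtain ⟨Z, hZ⟩ := QuotientGroup.mk_surjective ((e.symm z : H) : ProjectiveSpecialLinearGroup (Fin 2) F)
      have h4' : CfsgLib.Lie.BinaryPSL.pr (Z ^ 4) = 1 := by
        show (Z : ProjectiveSpecialLinearGroup (Fin 2) F) ^ 4 = 1
        rw [hZ, ← Subgroup.coe_pow, ← map_pow, hz.1, map_one]; rfl
      have hno : CfsgLib.Lie.BinaryPSL.pr (Z ^ 2) ≠ 1 := fun h => hz.2 (e.symm.injective (Subtype.ext (by
        rw [map_pow, Subgroup.coe_pow, ← hZ, map_one]; exact h)))
      have e4 : Z ^ 4 = 1 := CfsgLib.Lie.BinaryPSL.pr_inj_of_two h20 h4'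
      have e4' : (Z : Matrix (Fin 2) (Fin 2) F) * Z * ((Z : Matrix (Fin 2) (Fin 2) F) * Z) = 1 := by
        rw [← Matrix.SpecialLinearGroup.coe_mul, ← Matrix.SpecialLinearGroup.coe_mul,
          show Z * Z * (Z * Z) = Z ^ 4 by simp [pow_succ, mul_assoc], e4, Matrix.SpecialLinearGroup.coe_one]
      obtain ⟨t, ht⟩ : ∃ t, t = Trace.trc Z := ⟨_, rfl⟩
      by_cases ht0 : t = 0
      · refine hno ?_
        have : Z ^ 2 = -1 := Subtype.ext (by
          rw [pow_two, Matrix.SpecialLinearGroup.coe_mul, Trace.sq_eq, ← ht, ht0, zero_smul, zero_sub,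
            Matrix.SpecialLinearGroup.coe_neg, Matrix.SpecialLinearGroup.coe_one])
        rw [this, CfsgLib.Lie.BinaryPSL.pr_neg]; rfl
      · have hd := Z.2
        rw [Trace.sq_eq, ← ht] at e4'
        simp only [sub_mul, mul_sub, smul_mul_assoc, mul_smul_comm, one_mul, mul_one, Trace.sq_eq, ← ht] at e4'
        have hZ0 : ((Z : Matrix (Fin 2) (Fin 2) F) * Z).det = 1 := by rw [Matrix.det_mul, hd, one_mul]
        have h5 : (t * t) • ((Z : Matrix (Fin 2) (Fin 2) F) * Z) = 0 := by
          rw [Trace.sq_eq, ← ht]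
          have h22 : (2 : F) • (t • (Z : Matrix (Fin 2) (Fin 2) F)) = 0 := by rw [h20, zero_smul]
          linear_combination (norm := module) e4' + h22
        have := congrArg Matrix.det h5
        rw [Matrix.det_smul, hZ0, Matrix.det_zero, mul_one, Fintype.card_fin] at this
        exact ht0 (mul_self_eq_zero.1 (eq_zero_of_pow_eq_zero this))
    · rw [Nat.card_congr e.toEquiv, natCard_alt_five] at hdvd
      have hk3 : k ≤ 2 := by
        by_contra h
        have h8 : 2 ^ 3 ∣ 2 ^ k := pow_dvd_pow 2 (by omega)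
        have := h8.trans hdvd
        omega
      have hq0 : Nat.card F₀ = 2 := by
        have := Nat.pow_le_pow_right two_pos hk3
        rw [hBk] at hBc
        have : Nat.card F₀ ≤ 2 := by
          by_contra h
          have : 3 ^ 2 ≤ Nat.card F₀ ^ 2 := Nat.pow_le_pow_left (by omega) 2
          omega
        omega
      have hfr : f = r := by
        rw [hq, hq0] at hcard
        exact Nat.pow_right_injective le_rfl hcard
      refine Subgroup.eq_top_of_card_eq H ?_
      have hG := gcd_mul_card_psl (F := F) hq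
      rw [show Nat.gcd 2 (2 ^ f - 1) = 1 from Nat.coprime_two_left.2 (Nat.odd_iff.2 (by
        have := dvd_pow_self 2 (show f ≠ 0 by omega)
        have := Nat.two_pow_pos f
        omega)), one_mul] at hG
      rw [Nat.card_congr e.toEquiv, natCard_alt_five]
      rcases hr.eq_two_or_odd' with h2r | hodd
      · rw [hG, hfr, h2r]
        norm_num
      · exfalso
        have h5 : 5 ∣ 2 ^ f * ((2 ^ f) ^ 2 - 1) := by
          rw [← hG]
          have hd := Subgroup.card_subgroup_dvd_card H
          rw [Nat.card_congr e.toEquiv, natCard_alt_five] at hd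
          exact (Dvd.intro 12 rfl).trans hd
        obtain ⟨c, hc⟩ := hodd
        rcases (Nat.Prime.dvd_mul Nat.prime_five).1 h5 with h | h
        · have := (Nat.prime_dvd_prime_iff_eq Nat.prime_five Nat.prime_two).1 (Nat.prime_five.dvd_of_dvd_pow h)
          omega
        · have h4 : (2 ^ f) ^ 2 % 5 = 4 := by
            rw [hfr, hc, ← pow_mul, show (2 * c + 1) * 2 = 4 * c + 2 by ring, pow_add, pow_mul, Nat.mul_mod,
              Nat.pow_mod]
            norm_num
          have := Nat.two_pow_pos f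
          have : 0 < (2 ^ f) ^ 2 := by positivity
          omega
    · have htr : ∀ A ∈ L, (A : Matrix (Fin 2) (Fin 2) F).trace ^ 2 ∈ K := by
        intro A hA
        have h1 : pslConj g ((A : SL(2, F)) : ProjectiveSpecialLinearGroup (Fin 2) F) ∈ pglImage K.subtype := by
          have h2 : pslConj g ((A : SL(2, F)) : ProjectiveSpecialLinearGroup (Fin 2) F) ∈
              H.map (pslConj g).toMonoidHom := ⟨_, hmem A hA, rfl⟩
          rcases hcase with h3 | ⟨-, h3⟩ <;> rw [h3] at h2
          · exact h2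
          · exact pslImage_le_pglImage _ h2
        obtain ⟨k', hk'⟩ := (mem_pglImage _).1 h1
        induction k' using ProjGenLinGroup.induction_on with | mk k' => ?_
        rw [toPGL_pslConj, ProjectiveSpecialLinearGroup.toPGL_mk, ProjGenLinGroup.map_mk] at hk'
        have h4 : traceSq (g * SpecialLinearGroup.toGL A * g⁻¹) =
            traceSq (GeneralLinearGroup.map (n := Fin 2) K.subtype k') := by
          refine traceSq_congr ?_
          rw [map_mul, map_mul, map_inv]
          exact hk'.symm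
        rw [traceSq_conj, traceSq_toGL] at h4
        rw [h4, traceSq]
        have e : ((GeneralLinearGroup.map (n := Fin 2) K.subtype k' : GL (Fin 2) F) : Matrix (Fin 2) (Fin 2) F) =
            (k' : Matrix (Fin 2) (Fin 2) K).map K.subtype := rfl
        rw [e, Matrix.trace_fin_two, Matrix.det_fin_two]
        simp only [Matrix.map_apply, Subfield.coe_subtype]
        exact div_mem (pow_mem (add_mem (SetLike.coe_mem _) (SetLike.coe_mem _)) 2)
          (sub_mem (mul_mem (SetLike.coe_mem _) (SetLike.coe_mem _)) (mul_mem (SetLike.coe_mem _) (SetLike.coe_mem _)))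
      have hab : ∀ b ∈ B, a * b ∈ K := by
        have hsq : ∀ b ∈ B, (2 + a * b) ^ 2 ∈ K := fun b hb => by
          have := htr _ (L.mul_mem hU (hBL b hb))
          rw [Matrix.trace_fin_two] at this
          simp only [Matrix.SpecialLinearGroup.coe_mul] at this
          simp [up, lo, Matrix.mul_apply, Fin.sum_univ_two] at this
          convert this using 1
          ring
        intro b hb
        have h3 := hsq b hb
        rw [h20, zero_add] at h3
        exact (mem_subfield_iff_pow (L := K)).2 (by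
          have h4 := (mem_subfield_iff_pow (L := K)).1 h3
          refine frobenius_inj F 2 ?_
          rw [frobenius_def, frobenius_def, ← pow_mul, mul_comm (Nat.card K), pow_mul]
          exact h4)
      obtain ⟨b₁, hb₁, hb₁0⟩ : ∃ b ∈ B, b ≠ 0 := by
        by_contra! hc
        have : B = ⊥ := (AddSubgroup.eq_bot_iff_forall B).2 hc
        rw [this] at hBk
        simp at hBk
        omega
      have hle : F₀ ≤ K := fun c hc => by
        have h1 := div_mem (hab _ (hB₀ c hc b₁ hb₁)) (hab b₁ hb₁)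
        rwa [mul_left_comm, mul_div_cancel_right₀ _ (mul_ne_zero ha hb₁0)] at h1
      have hKbig : Nat.card F₀ ^ 2 ≤ Nat.card K := by
        refine hBc.trans (Nat.card_le_card_of_injective (fun b : B => (⟨a * b, hab _ b.2⟩ : K)) ?_)
        intro b c hbc
        exact Subtype.ext (mul_left_cancel₀ ha (congrArg Subtype.val hbc))
      rcases subfield_card_cases hr (by omega) hcard.symm rfl hle with h1 | h1
      · rw [h1] at hKbig
        have := Nat.pow_lt_pow_right (show 1 < Nat.card F₀ by omega) (show 1 < 2 by norm_num)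
        rw [pow_one] at this
        omega
      · exact eq_top_of_subfield 2 h1 hcase
  -- lift to SL
  refine eq_top_iff.2 ?_
  have h4 : 4 ≤ Fintype.card F := by
    rw [hcard]
    calc 4 = 2 ^ 2 := by norm_num
      _ ≤ Nat.card F₀ ^ 2 := Nat.pow_le_pow_left hk2 2
      _ ≤ Nat.card F₀ ^ r := Nat.pow_le_pow_right (by omega) hr.two_le
  rw [← commutator_SL_two_eq_top h4, commutator_def, Subgroup.commutator_le]
  intro x _ y _
  have hdec : ∀ x : SL(2, F), ∃ l ∈ L, ∃ z ∈ Subgroup.center SL(2, F), x = l * z := by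
    intro x
    have h1 : ((x : SL(2, F)) : ProjectiveSpecialLinearGroup (Fin 2) F) ∈ H := hHtop ▸ Subgroup.mem_top _
    obtain ⟨l, hl, hlx⟩ := h1
    exact ⟨l, hl, l⁻¹ * x, QuotientGroup.eq.1 hlx, (mul_inv_cancel_left l x).symm⟩
  obtain ⟨l, hl, z, hz, rfl⟩ := hdec x
  obtain ⟨l', hl', z', hz', rfl⟩ := hdec y
  have e : ⁅l * z, l' * z'⁆ = ⁅l, l'⁆ := by
    have c1 := Subgroup.mem_center_iff.1 hz
    have c2 := Subgroup.mem_center_iff.1 hz'
    simp only [commutatorElement_def, _root_.mul_inv_rev]
    calc l * z * (l' * z') * (z⁻¹ * l⁻¹) * (z'⁻¹ * l'⁻¹)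
        = l * (z * (l' * z') * z⁻¹) * l⁻¹ * z'⁻¹ * l'⁻¹ := by group
      _ = l * (l' * z') * l⁻¹ * z'⁻¹ * l'⁻¹ := by rw [← c1, mul_inv_cancel_right]
      _ = l * l' * (z' * l⁻¹) * z'⁻¹ * l'⁻¹ := by group
      _ = l * l' * (l⁻¹ * z') * z'⁻¹ * l'⁻¹ := by rw [c2]
      _ = l * l' * l⁻¹ * l'⁻¹ := by group
  rw [e, commutatorElement_def]
  exact L.mul_mem (L.mul_mem (L.mul_mem hl hl') (L.inv_mem hl)) (L.inv_mem hl')

end CfsgLib.Lie.SpFourEven
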