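import Cfsg.Agent.Lib.Geo.FieldExtSympFinal

/-!
# Normalisers of self-adjoint field subalgebras in `Sp₄` are maximal
-/

set_option autoImplicit false

namespace CfsgLib.Lie.SpFourEven

open Matrix Cfsg.Geo CfsgLib.Geo.FieldExt CfsgLib.Geo.FieldExtSymp
open LinearMap (BilinForm)

variable {F : Type*} [Field F] [Fintype F]

set_option maxHeartbeats 800000 in
theorem isMaximalIn_sp4 (hq : 3 ≤ Fintype.card F) {r : ℕ} (hr : r.Prime)
    (K : Subalgebra F (Matrix (Fin 2 ⊕ Fin 2) (Fin 2 ⊕ Fin 2) F)) (hK : IsFieldSubalgebra r K)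
    (hsa : IsSelfAdjointFor (Cfsg.sympForm 2 F) K)
    (halt : ∀ k ∈ K, ∀ v : Fin 2 ⊕ Fin 2 → F, Cfsg.sympForm 2 F (Matrix.mulVec k v) v = 0) :
    IsMaximalIn (Cfsg.spGL 2 F) (subalgebraNormalizer K ⊓ Cfsg.spGL 2 F) := by
  classical
  haveI : Nonempty (Fin 2 ⊕ Fin 2) := ⟨Sum.inl 0⟩
  haveI : Nontrivial K := ⟨⟨0, 1, zero_ne_one⟩⟩
  have hKf : IsField K := ⟨⟨0, 1, zero_ne_one⟩, fun a b => Subtype.ext (hK.comm a.1 a.2 b.1 b.2), fun {a} ha => by
    obtain ⟨y, hy, e⟩ := hK.inv a.1 a.2 (fun h => ha (Subtype.ext h))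
    exact ⟨⟨y, hy⟩, Subtype.ext e⟩⟩
  letI : Field K := @IsField.toField K (inferInstance : Ring K) hKf
  letI : Module K (Fin 2 ⊕ Fin 2 → F) :=
    { smul := fun k v => (k : Matrix (Fin 2 ⊕ Fin 2) (Fin 2 ⊕ Fin 2) F) *ᵥ v
      one_smul := fun v => Matrix.one_mulVec v
      mul_smul := fun a b v => (Matrix.mulVec_mulVec v (a : Matrix (Fin 2 ⊕ Fin 2) (Fin 2 ⊕ Fin 2) F) b).symm
      smul_zero := fun a => Matrix.mulVec_zero _
      smul_add := fun a u v => Matrix.mulVec_add _ u v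
      add_smul := fun a b v => Matrix.add_mulVec _ _ v
      zero_smul := fun v => Matrix.zero_mulVec v }
  haveI : IsScalarTower F K (Fin 2 ⊕ Fin 2 → F) :=
    ⟨fun c k v => Matrix.smul_mulVec c (k : Matrix (Fin 2 ⊕ Fin 2) (Fin 2 ⊕ Fin 2) F) v⟩
  haveI : FiniteDimensional F K := Module.finite_of_finrank_pos (by rw [hK.finrank_eq]; exact hr.pos)
  haveI : FiniteDimensional K (Fin 2 ⊕ Fin 2 → F) := Module.Finite.of_restrictScalars_finite F K _
  haveI : Nontrivial (Fin 2 ⊕ Fin 2 → F) := inferInstance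
  haveI : Finite K := Finite.of_injective _ Subtype.val_injective
  set f := CfsgLib.Classical.Symp.sympBil 2 F
  have hf : ∀ u v, f u v = Cfsg.sympForm 2 F u v := fun u v => CfsgLib.Classical.Symp.sympBil_apply ..
  -- a functional on the field
  obtain ⟨μ, hμ⟩ := exists_functional' (K := F) (V := K) (u := (1 : K)) one_ne_zero
  let Φ : (Fin 2 ⊕ Fin 2 → F) → (Fin 2 ⊕ Fin 2 → F) → (K →ₗ[F] F) := fun u v =>
    { toFun := fun k => f (k • u) v
      map_add' := fun a b => by rw [add_smul, map_add, LinearMap.add_apply]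
      map_smul' := fun s a => by rw [smul_assoc, map_smul, LinearMap.smul_apply, RingHom.id_apply] }
  choose b hb using fun u v => exists_eq_mul hμ (Φ u v)
  have hb' : ∀ u v (k : K), f (k • u) v = μ (b u v * k) := hb
  have huniq : ∀ {x y : K}, (∀ k, μ (x * k) = μ (y * k)) → x = y := fun h =>
    sub_eq_zero.1 (eq_zero_of_forall hμ fun k => by rw [sub_mul, map_sub, h, sub_self])
  have hsa' : ∀ (k : K) u v, f (k • u) v = f u (k • v) := fun k u v => by rw [hf, hf]; exact hsa k.1 k.2 u v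
  have badd : ∀ u u' v, b (u + u') v = b u v + b u' v := fun u u' v => huniq fun k => by
    rw [add_mul, map_add, ← hb', ← hb', ← hb', smul_add, map_add, LinearMap.add_apply]
  have bsmul : ∀ (c : K) u v, b (c • u) v = c * b u v := fun c u v => huniq fun k => by
    rw [← hb', show c * b u v * k = b u v * (k * c) by ring, ← hb', smul_smul]
  let B : BilinForm K (Fin 2 ⊕ Fin 2 → F) := LinearMap.mk₂ K b badd bsmul
    (fun u v v' => huniq fun k => by rw [add_mul, map_add, ← hb', ← hb', ← hb', map_add])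
    (fun c u v => huniq fun k => by
      rw [smul_eq_mul, ← hb', show c * b u v * k = b u v * (c * k) by ring, ← hb', hsa', hsa' (c * k), smul_smul,
        mul_comm c k])
  have hB : ∀ u v, μ (B u v) = f u v := fun u v => by
    show μ (b u v) = _
    rw [← one_smul K u, hb', one_smul, mul_one]
  have halt' : B.IsAlt := fun v => eq_zero_of_forall hμ fun k => by
    show μ (b v v * k) = 0
    rw [← hb', hf]
    exact halt k.1 k.2 v
  have hnd : B.Nondegenerate := by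
    refine ⟨fun u hu => (CfsgLib.Classical.Symp.sympBil_nondegenerate 2 F).1 u fun v => ?_,
      fun v hv => (CfsgLib.Classical.Symp.sympBil_nondegenerate 2 F).2 v fun u => ?_⟩
    · rw [← hB, hu, map_zero]
    · rw [← hB, hv, map_zero]
  let e : GL (Fin 2 ⊕ Fin 2) F ≃* ((Fin 2 ⊕ Fin 2 → F) ≃ₗ[F] (Fin 2 ⊕ Fin 2 → F)) :=
    Matrix.GeneralLinearGroup.toLin.trans (LinearMap.GeneralLinearGroup.generalLinearEquiv F (Fin 2 ⊕ Fin 2 → F))
  have he : ∀ (x : GL (Fin 2 ⊕ Fin 2) F) y, e x y = (x : Matrix (Fin 2 ⊕ Fin 2) (Fin 2 ⊕ Fin 2) F) *ᵥ y :=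
    fun x y => rfl
  have hmemSp : ∀ x : GL (Fin 2 ⊕ Fin 2) F, x ∈ Cfsg.spGL 2 F ↔ ∀ u v, f (e x u) (e x v) = f u v := fun x => by
    simp only [hf, he]; rfl
  have hdim := Module.finrank_mul_finrank F K (Fin 2 ⊕ Fin 2 → F)
  rw [hK.finrank_eq, Module.finrank_pi, Fintype.card_sum, Fintype.card_fin] at hdim
  have h2 : 2 ≤ Module.finrank K (Fin 2 ⊕ Fin 2 → F) := by
    obtain ⟨v, hv⟩ := exists_ne (0 : Fin 2 ⊕ Fin 2 → F)
    by_contra h
    push Not at h
    have h1 := Submodule.finrank_le (Submodule.span K {v})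
    rw [finrank_span_singleton hv] at h1
    have htop : Submodule.span K {v} = ⊤ := Submodule.eq_top_of_finrank_eq (by rw [finrank_span_singleton hv]; omega)
    refine hv (hnd.2 v fun x => ?_)
    obtain ⟨c, rfl⟩ := Submodule.mem_span_singleton.1 (htop ▸ Submodule.mem_top : x ∈ Submodule.span K {v})
    rw [map_smul, LinearMap.smul_apply, halt' v, smul_zero]
  refine ⟨lt_of_le_of_ne inf_le_right fun heq => ?_, fun M hM hMS => ?_⟩
  · -- a transvection over the smaller field outside the normaliser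
    obtain ⟨a, ha⟩ := exists_ne (0 : Fin 2 ⊕ Fin 2 → F)
    obtain ⟨u, hu⟩ : ∃ u, B u a = 1 := by
      obtain ⟨u₀, hu₀⟩ : ∃ u, B u a ≠ 0 := by
        by_contra! hall
        exact ha (hnd.2 a hall)
      exact ⟨(B u₀ a)⁻¹ • u₀, by rw [map_smul, LinearMap.smul_apply, smul_eq_mul, inv_mul_cancel₀ hu₀]⟩
    obtain ⟨κ, hκ, hκ0⟩ := (Submodule.ne_bot_iff (LinearMap.ker μ)).1 (fun e => by
      have h1 := LinearMap.finrank_range_add_finrank_ker μ
      have h2 := (Submodule.finrank_le (LinearMap.range μ)).trans (Module.finrank_self F).le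
      rw [e, finrank_bot, hK.finrank_eq] at h1
      have := hr.two_le
      omega)
    rw [LinearMap.mem_ker] at hκ
    set v := κ • u with hv
    have hBva : B v a = κ := by rw [hv, map_smul, LinearMap.smul_apply, hu, smul_eq_mul, mul_one]
    let T := CfsgLib.Classical.Symp.symplecticEquiv 2 F |>.symm
      (CfsgLib.Classical.Symp.tr (CfsgLib.Classical.Symp.sympBil_isAlt 2 F) a 1)
    let g : GL (Fin 2 ⊕ Fin 2) F := CfsgLib.Classical.Symp.symplecticEquivSpGL 2 F T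
    have hg : g ∈ Cfsg.spGL 2 F := (CfsgLib.Classical.Symp.symplecticEquivSpGL 2 F T).2
    have hgy : ∀ y, e g y = y + f y a • a := fun y => by
      rw [he]
      show (T : Matrix (Fin 2 ⊕ Fin 2) (Fin 2 ⊕ Fin 2) F) *ᵥ y = _
      rw [CfsgLib.Classical.Symp.symplecticEquiv_symm_mulVec, CfsgLib.Classical.Symp.tr_apply, one_mul]
    rw [← heq] at hg
    set k : K := κ⁻¹ with hk
    obtain ⟨k', hk'⟩ : ∃ k' : K, ∀ y, e g (k • y) = k' • e g y := by
      refine ⟨⟨_, (hg.1 k.1).1 k.2⟩, fun y => ?_⟩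
      rw [he, he]
      show (g : Matrix (Fin 2 ⊕ Fin 2) (Fin 2 ⊕ Fin 2) F) *ᵥ (k.1 *ᵥ y) =
        ((g : Matrix (Fin 2 ⊕ Fin 2) (Fin 2 ⊕ Fin 2) F) * k.1 * _) *ᵥ _
      rw [Matrix.mulVec_mulVec, Matrix.mulVec_mulVec, Units.inv_mul_cancel_right]
    have h1 := hk' v
    rw [hgy, hgy, ← hB, ← hB, map_smul, LinearMap.smul_apply, hBva, hκ, zero_smul, add_zero, smul_eq_mul, hk,
      inv_mul_cancel₀ hκ0, hμ, one_smul] at h1
    have h4 := congrArg (fun y => B y a) h1
    simp only [map_add, LinearMap.add_apply, map_smul, LinearMap.smul_apply, hBva, halt' a, add_zero, smul_eq_mul] at h4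
    rw [← mul_right_cancel₀ hκ0 h4, add_eq_left] at h1
    exact ha h1
  by_cases hMn : M ≤ subalgebraNormalizer K
  · exact Or.inl (le_antisymm (le_inf hMn hMS) hM)
  refine Or.inr (le_antisymm hMS ?_)
  obtain ⟨g, hg, hgn⟩ := SetLike.not_le_iff_exists.1 hMn
  let X : Subgroup ((Fin 2 ⊕ Fin 2 → F) ≃ₗ[F] (Fin 2 ⊕ Fin 2 → F)) := M.map e.toMonoidHom
  have hs : Setup B μ X := by
    refine ⟨halt', hnd, hμ, ?_, fun y hy => ?_⟩
    · rintro _ ⟨x, hx, rfl⟩ u v
      rw [hB, hB]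
      exact (hmemSp x).1 (hMS hx) u v
    · refine ⟨e.symm (y.restrictScalars F), hM ⟨fun k => ?_, (hmemSp _).2 fun u v => ?_⟩, e.apply_symm_apply _⟩
      · set x := e.symm (y.restrictScalars F) with hx
        have hxy : ∀ z, (x : Matrix (Fin 2 ⊕ Fin 2) (Fin 2 ⊕ Fin 2) F) *ᵥ z = y z := fun z => by
          rw [← he, hx, MulEquiv.apply_symm_apply]; rfl
        have hc : ∀ k ∈ K, (x : Matrix (Fin 2 ⊕ Fin 2) (Fin 2 ⊕ Fin 2) F) * k =
            k * (x : Matrix (Fin 2 ⊕ Fin 2) (Fin 2 ⊕ Fin 2) F) := fun k hk =>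
          Matrix.toLin'.injective (LinearMap.ext fun z => by
            simp only [Matrix.toLin'_apply, ← Matrix.mulVec_mulVec, hxy]
            exact y.map_smul ⟨k, hk⟩ z)
        refine ⟨fun hk => by rw [hc k hk, Units.mul_inv_cancel_right]; exact hk, fun hk => ?_⟩
        have h1 := hc _ hk
        rw [Units.inv_mul_cancel_right] at h1
        have h2' := (Units.mul_right_inj x).1 h1
        rw [h2'] at hk
        exact hk
      · rw [MulEquiv.apply_symm_apply, ← hB, ← hB]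
        exact congrArg μ (hy u v)
  have hns : ¬ ∀ k : K, ∃ k' : K, ∀ y, e g (k • y) = k' • e g y := by
    intro hsl
    choose σ hσ using hsl
    have hc : ∀ k : K, (g : Matrix (Fin 2 ⊕ Fin 2) (Fin 2 ⊕ Fin 2) F) * k.1 *
        ((g⁻¹ : GL (Fin 2 ⊕ Fin 2) F) : Matrix (Fin 2 ⊕ Fin 2) (Fin 2 ⊕ Fin 2) F) = (σ k).1 := fun k => by
      have h1 : (g : Matrix (Fin 2 ⊕ Fin 2) (Fin 2 ⊕ Fin 2) F) * k.1 =
          (σ k).1 * (g : Matrix (Fin 2 ⊕ Fin 2) (Fin 2 ⊕ Fin 2) F) :=
        Matrix.toLin'.injective (LinearMap.ext fun y => by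
          simp only [Matrix.toLin'_apply, ← Matrix.mulVec_mulVec]
          exact hσ k y)
      rw [h1, Units.mul_inv_cancel_right]
    have hinj : Function.Injective σ := fun a b hab => by
      have h1 := (hc a).trans ((congrArg Subtype.val hab).trans (hc b).symm)
      rw [(Units.isUnit g⁻¹).mul_left_inj, (Units.isUnit g).mul_right_inj] at h1
      exact Subtype.ext h1
    refine hgn fun k => ⟨fun hk => hc ⟨k, hk⟩ ▸ (σ ⟨k, hk⟩).2, fun hk => ?_⟩
    obtain ⟨l, hl⟩ := (Finite.injective_iff_surjective.1 hinj) ⟨_, hk⟩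
    have h1 := (hc l).trans (congrArg Subtype.val hl)
    rw [(Units.isUnit g⁻¹).mul_left_inj, (Units.isUnit g).mul_right_inj] at h1
    rw [← h1]
    exact l.2
  have hbig : 3 ≤ Module.finrank F K ∨ 3 ≤ Fintype.card F ∨ 3 ≤ Module.finrank K (Fin 2 ⊕ Fin 2 → F) :=
    Or.inr (Or.inl hq)
  have hdy := hs.dy_mem (by rw [hK.finrank_eq]; exact hr) hbig h2 (Subgroup.mem_map_of_mem _ hg) hns
  have htop : (M.subgroupOf (Cfsg.spGL 2 F)).comap
      (CfsgLib.Classical.Symp.symplecticEquivSpGL 2 F).toMonoidHom = ⊤ := by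
    rw [eq_top_iff, ← CfsgLib.Classical.Symp.closure_sympTransvection_eq_top, Subgroup.closure_le]
    rintro A ⟨w, c, hA⟩
    rw [SetLike.mem_coe, Subgroup.mem_comap, Subgroup.mem_subgroupOf]
    obtain ⟨_, ⟨x, hx, rfl⟩, hxy⟩ := (hs.coeff.smul_mem c hdy : RS B X (c • dy μ 1 1)) w
    suffices hs' : ((CfsgLib.Classical.Symp.symplecticEquivSpGL 2 F A : Cfsg.spGL 2 F) : GL _ F) = x by
      exact hs' ▸ hx
    refine Units.ext (Matrix.toLin'.injective (LinearMap.ext fun z => ?_))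
    simp only [Matrix.toLin'_apply]
    refine Eq.trans ?_ (hxy z).symm
    show (A : Matrix (Fin 2 ⊕ Fin 2) (Fin 2 ⊕ Fin 2) F) *ᵥ z = _
    rw [hA, ← CfsgLib.Classical.Symp.symplecticEquiv_symm_tr, CfsgLib.Classical.Symp.symplecticEquiv_symm_mulVec,
      CfsgLib.Classical.Symp.tr_apply]
    simp only [root_apply, LinearMap.smul_apply, dy_apply, one_mul, LinearMap.BilinForm.flip_apply, hB, smul_assoc,
      one_smul, smul_smul]
    rfl
  intro x hx
  have h1 := htop.ge (Subgroup.mem_top ((CfsgLib.Classical.Symp.symplecticEquivSpGL 2 F).symm ⟨x, hx⟩))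
  rw [Subgroup.mem_comap, MulEquiv.coe_toMonoidHom, MulEquiv.apply_symm_apply, Subgroup.mem_subgroupOf] at h1
  exact h1

end CfsgLib.Lie.SpFourEven
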