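import Cfsg.Agent.Lib.Geo.QuadInSymplectic

/-!
# Orthogonal groups in `Sp₄` in characteristic two are maximal
-/

set_option autoImplicit false

namespace CfsgLib.Lie.SpFourEven

open Matrix
open CfsgLib.Classical.Symp CfsgLib.Geo CfsgLib.Geo.Roots

variable {F : Type*} [Field F]

theorem orth_of_singular {Q : (Fin 2 ⊕ Fin 2 → F) → F}
    (hpol : ∀ u v, QuadraticMap.polar Q u v = Cfsg.sympForm 2 F u v) {U : Submodule F (Fin 2 ⊕ Fin 2 → F)}
    (hU : ∀ y ∈ U, Q y = 0) : U ≤ (sympBil 2 F).orthogonal U := fun y hy x hx => by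
  show sympBil 2 F x y = 0
  rw [sympBil_apply, ← hpol, QuadraticMap.polar, hU x hx, hU y hy, hU _ (Submodule.add_mem _ hx hy)]
  ring

theorem exists_aniso_pair {Q : (Fin 2 ⊕ Fin 2 → F) → F}
    (hpol : ∀ u v, QuadraticMap.polar Q u v = Cfsg.sympForm 2 F u v) {a w : Fin 2 ⊕ Fin 2 → F}
    (haw : Cfsg.sympForm 2 F a w ≠ 0) :
    ∃ y, Cfsg.sympForm 2 F a y = 0 ∧ Cfsg.sympForm 2 F w y = 0 ∧ Q y ≠ 0 := by
  let B := sympBil 2 F
  let L : (Fin 2 ⊕ Fin 2 → F) →ₗ[F] F × F := (B a).prod (B w)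
  by_contra! hcon
  have hker : ∀ y ∈ LinearMap.ker L, B a y = 0 ∧ B w y = 0 := fun y hy => by
    simpa [L] using hy
  have hle := orth_of_singular hpol (U := LinearMap.ker L) fun y hy =>
    hcon y (by rw [← sympBil_apply]; exact (hker y hy).1) (by rw [← sympBil_apply]; exact (hker y hy).2)
  have h1 := LinearMap.BilinForm.finrank_orthogonal (sympBil_nondegenerate 2 F) (LinearMap.ker L)
  have h2 := LinearMap.finrank_range_add_finrank_ker L
  have h3 := Submodule.finrank_le (LinearMap.range L)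
  rw [Module.finrank_prod, Module.finrank_self] at h3
  rw [finrank_sympSpace] at h1 h2
  have heq := Submodule.eq_of_le_of_finrank_le hle (by rw [h1]; omega)
  have hA := sympBil_isAlt 2 F
  have ha : a ∈ (sympBil 2 F).orthogonal (LinearMap.ker L) := fun x hx => by
    show B x a = 0
    rw [← hA.neg_eq a x, (hker x hx).1, neg_zero]
  rw [← heq] at ha
  exact haw (by rw [← sympBil_apply, ← hA.neg_eq w a, (hker a ha).2, neg_zero])

theorem exists_aniso_one {Q : (Fin 2 ⊕ Fin 2 → F) → F}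
    (hpol : ∀ u v, QuadraticMap.polar Q u v = Cfsg.sympForm 2 F u v) (a : Fin 2 ⊕ Fin 2 → F) :
    ∃ y, Cfsg.sympForm 2 F a y = 0 ∧ Q y ≠ 0 := by
  let B := sympBil 2 F
  by_contra! hcon
  have hle := orth_of_singular hpol (U := LinearMap.ker (B a)) fun y hy =>
    hcon y (by rw [← sympBil_apply]; exact LinearMap.mem_ker.1 hy)
  have h1 := LinearMap.BilinForm.finrank_orthogonal (sympBil_nondegenerate 2 F) (LinearMap.ker (B a))
  have h2 := LinearMap.finrank_range_add_finrank_ker (B a)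
  have h3 := Submodule.finrank_le (LinearMap.range (B a))
  have h4 := Submodule.finrank_mono hle
  rw [Module.finrank_self] at h3
  rw [finrank_sympSpace] at h1 h2
  omega

/-- The isometries of a quadratic form in characteristic two are maximal in the symplectic group. -/
theorem isMaximalIn_quad [Finite F] (hδ : ∃ δ : F, δ ≠ 0 ∧ δ ≠ 1) (h2 : (2 : F) = 0) (hchar : ringChar F = 2)
    {Q : (Fin 2 ⊕ Fin 2 → F) → F} (hQ : Cfsg.Geo.IsNondegenerateQuadraticForm Q)
    (hpol : ∀ u v, QuadraticMap.polar Q u v = Cfsg.sympForm 2 F u v) :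
    Cfsg.Geo.IsMaximalIn (Cfsg.spGL 2 F) (Cfsg.Geo.quadSimilarityGroup Q ⊓ Cfsg.spGL 2 F) := by
  have hf := isSymplecticForm_sympForm (m := 2) (F := F)
  set f := Cfsg.sympForm 2 F with hfdef
  have hcomm : ∀ u v, f u v = f v u := fun u v => by
    rw [hf.skew]
    linear_combination -(f v u) * h2
  have hQadd : ∀ u v, Q (u + v) = Q u + Q v + f u v := fun u v => by
    rw [← hpol, QuadraticMap.polar]; ring
  have hsq : ∀ a : F, ∃ s : F, s * s = a := fun a => by
    obtain ⟨s, hs⟩ := FiniteField.isSquare_of_char_two hchar a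
    exact ⟨s, hs.symm⟩
  have hT : ∀ (v : Fin 2 ⊕ Fin 2 → F) (h : fvec f v ⬝ᵥ v = 0) x,
      ((transvectionGL (fvec f v) v h : Matrix.GeneralLinearGroup _ F) : Matrix (Fin 2 ⊕ Fin 2) (Fin 2 ⊕ Fin 2) F) *ᵥ x = x + f v x • v :=
    fun v h x => by rw [transvectionGL_mulVec, fvec_dot hf.bilinear]
  have hd : ∀ v, fvec f v ⬝ᵥ v = 0 := fun v => by rw [fvec_dot hf.bilinear, hf.alternating]
  have hsp : ∀ g ∈ Cfsg.spGL 2 F, ∀ u v,
      f (((g : Matrix.GeneralLinearGroup (Fin 2 ⊕ Fin 2) F) : Matrix (Fin 2 ⊕ Fin 2) (Fin 2 ⊕ Fin 2) F) *ᵥ u)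
        ((g : Matrix (Fin 2 ⊕ Fin 2) (Fin 2 ⊕ Fin 2) F) *ᵥ v) = f u v := fun g hg => mem_spGL_iff.1 hg
  have hTsp : ∀ v, transvectionGL (fvec f v) v (hd v) ∈ Cfsg.spGL 2 F := fun v => by
    rw [mem_spGL_iff]
    intro a b
    show f _ _ = f a b
    rw [hT, hT]
    simp only [hf.bilinear.add_left, hf.bilinear.add_right, hf.bilinear.smul_left,
      hf.bilinear.smul_right, hf.alternating]
    rw [hcomm a v]
    linear_combination (f v a * f v b) * h2
  -- adjust a vector to a prescribed value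
  have hadjust : ∀ (a x₀ : Fin 2 ⊕ Fin 2 → F) (c : F), f a x₀ ≠ 0 → ∃ x, Q x = c ∧ f a x = f a x₀ := by
    intro a x₀ c hne
    obtain ⟨y, (ha : f a y = 0), (hx : f x₀ y = 0), hy⟩ := exists_aniso_pair hpol hne
    obtain ⟨s, hs⟩ := hsq ((c - Q x₀) / Q y)
    refine ⟨x₀ + s • y, ?_, ?_⟩
    · rw [hQadd, hQ.smul, hf.bilinear.smul_right, hx, mul_zero, add_zero, sq, hs]
      field_simp
      ring
    · rw [hf.bilinear.add_right, hf.bilinear.smul_right, ha, mul_zero, add_zero]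
  have hQ0 : Q 0 = 0 := by
    have := hQ.smul 0 0
    simpa using this
  obtain ⟨i⟩ : Nonempty (Fin 2) := ⟨0⟩
  set e : Fin 2 ⊕ Fin 2 → F := Pi.single (Sum.inl i) 1 with he
  have he0 : e ≠ 0 := fun h => by simpa [he] using congrFun h (Sum.inl i)
  refine ⟨lt_of_le_of_ne inf_le_right fun heq => ?_, fun M hM hMS => ?_⟩
  · obtain ⟨x₁, hx₁⟩ := (hf.nondegenerate e he0).2
    obtain ⟨v, hv, hv'⟩ := hadjust x₁ e 0 (by rw [hcomm]; exact hx₁)
    have hv0 : v ≠ 0 := fun h => by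
      rw [h, ← zero_smul F (0 : Fin 2 ⊕ Fin 2 → F), hf.bilinear.smul_right, zero_mul, hcomm] at hv'
      exact hx₁ hv'.symm
    obtain ⟨c, hc⟩ := (heq.ge (hTsp v)).1
    obtain ⟨x, hx⟩ := (hf.nondegenerate v hv0).2
    have hpolc : ∀ a b, f a b = (c : F) * f a b := fun a b => by
      conv_lhs => rw [← hsp _ (hTsp v) a b, ← hpol, QuadraticMap.polar, ← Matrix.mulVec_add,
        hc, hc, hc]
      rw [← hpol, QuadraticMap.polar]
      ring
    have hc1 : (c : F) = 1 := by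
      have := hpolc v x
      have h' : ((c : F) - 1) * f v x = 0 := by linear_combination -this
      exact sub_eq_zero.1 ((mul_eq_zero.1 h').resolve_right hx)
    have h3 := hc x
    rw [hT, hc1, one_mul, hQadd, hQ.smul, hv, mul_zero, add_zero, hf.bilinear.smul_right, hcomm x v] at h3
    exact hx (by
      have : f v x * f v x = 0 := by linear_combination h3
      exact mul_self_eq_zero.1 this)
  refine (eq_or_lt_of_le hM).imp Eq.symm fun hlt => le_antisymm hMS ?_
  obtain ⟨g, hgM, hgn⟩ := SetLike.exists_of_lt hlt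
  let S : Set (Fin 2 ⊕ Fin 2 → F) := {v | Root M (fvec f v) v}
  have hS1 : ∀ v, Q v = 1 → v ∈ S := fun v hv => by
    refine ⟨hd v, hM ⟨⟨1, fun x => ?_⟩, hTsp v⟩⟩
    rw [hT, hQadd, hQ.smul, hv, hf.bilinear.smul_right, hcomm x v, Units.val_one]
    linear_combination (f v x) ^ 2 * h2
  have hconj : ∀ (h : Matrix.GeneralLinearGroup (Fin 2 ⊕ Fin 2) F), h ∈ M → h ∈ Cfsg.spGL 2 F → ∀ v ∈ S,
      (h : Matrix (Fin 2 ⊕ Fin 2) (Fin 2 ⊕ Fin 2) F) *ᵥ v ∈ S := by
    intro h hhM hhS v hv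
    have := Root.conj hv hhM
    show Root M _ _
    convert this using 1
    refine eq_of_dot fun z => ?_
    rw [← Matrix.dotProduct_mulVec, fvec_dot hf.bilinear, fvec_dot hf.bilinear]
    conv_rhs => rw [← hsp _ hhS]
    rw [Matrix.mulVec_mulVec, Units.mul_inv, Matrix.one_mulVec]
  have hclose : ∀ v ∈ S, ∀ w ∈ S, w + f v w • v ∈ S := fun v hv w hw => by
    have := hconj _ hv.2 (hTsp v) w hw
    rwa [hT] at this
  -- a level other than one
  obtain ⟨v₀, hv₀, hv₀0, hv₀1⟩ : ∃ v, v ∈ S ∧ v ≠ 0 ∧ Q v ≠ 1 := by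
    by_contra! hcon
    apply hgn
    refine ⟨?_, hMS hgM⟩
    have hgS : g ∈ Cfsg.spGL 2 F := hMS hgM
    have h1 : ∀ v, Q v = 1 → Q ((g : Matrix (Fin 2 ⊕ Fin 2) (Fin 2 ⊕ Fin 2) F) *ᵥ v) = 1 := fun v hv => by
      refine hcon _ (hconj g hgM hgS v (hS1 v hv)) fun h0 => ?_
      have := congrArg (((g⁻¹ : Matrix.GeneralLinearGroup _ F) : Matrix (Fin 2 ⊕ Fin 2) (Fin 2 ⊕ Fin 2) F) *ᵥ ·) h0
      simp only [Matrix.mulVec_mulVec, Units.inv_mul, Matrix.one_mulVec, Matrix.mulVec_zero] at this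
      rw [this, hQ0] at hv
      exact zero_ne_one hv
    have hne : ∀ v, Q v ≠ 0 → Q ((g : Matrix (Fin 2 ⊕ Fin 2) (Fin 2 ⊕ Fin 2) F) *ᵥ v) = Q v := fun v hv => by
      obtain ⟨s, hs⟩ := hsq (Q v)
      have hs0 : s ≠ 0 := fun h => hv (by rw [← hs, h, zero_mul])
      have := h1 (s⁻¹ • v) (by rw [hQ.smul, ← hs]; field_simp)
      rw [Matrix.mulVec_smul, hQ.smul] at this
      field_simp at this
      rw [this, ← hs, sq]
    refine ⟨1, fun v => ?_⟩
    rw [Units.val_one, one_mul]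
    by_cases hv : Q v = 0
    · rcases eq_or_ne v 0 with rfl | hv0
      · rw [Matrix.mulVec_zero]
      obtain ⟨y, (hy : f v y = 0), hQy⟩ := exists_aniso_one hpol v
      have hsum : Q (v + y) ≠ 0 := by rw [hQadd, hv, hy, zero_add, add_zero]; exact hQy
      have h3 := hne _ hsum
      rw [Matrix.mulVec_add, hQadd, hQadd v y, hsp g hgS, hne y hQy] at h3
      linear_combination h3
    · exact hne v hv
  set c₀ := Q v₀ with hc₀
  have hlevel : ∀ (w z : Fin 2 ⊕ Fin 2 → F), w ∈ S → Q w = Q z → f w z ≠ 0 → z ∈ S := by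
    intro w z hw hwz hne
    obtain ⟨s, hs⟩ := hsq (f w z)
    have hs0 : s ≠ 0 := fun h => hne (by rw [← hs, h, zero_mul])
    have hv : Q (s⁻¹ • (w + z)) = 1 := by
      rw [hQ.smul, hQadd, ← hwz, ← hs]
      field_simp
      linear_combination (Q w) * h2
    have := hclose _ (hS1 _ hv) w hw
    rw [hf.bilinear.smul_left, hf.bilinear.add_left, hf.alternating, zero_add, hcomm z w, ← hs, smul_smul,
      show s⁻¹ * (s * s) * s⁻¹ = 1 by field_simp, one_smul] at this
    have hz : w + (w + z) = z := by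
      rw [← add_assoc, ← two_smul F w, h2, zero_smul, zero_add]
    rwa [hz] at this
  have hlevel' : ∀ (w z : Fin 2 ⊕ Fin 2 → F), w ∈ S → Q w = Q z → w ≠ 0 → z ≠ 0 → z ∈ S := by
    intro w z hw hwz hw0 hz0
    by_cases hne : f w z = 0
    swap
    · exact hlevel w z hw hwz hne
    obtain ⟨x, hx, hxw, hxz⟩ : ∃ x, Q x = Q w ∧ f w x ≠ 0 ∧ f z x ≠ 0 := by
      obtain ⟨x₁, hx₁⟩ := (hf.nondegenerate w hw0).2
      by_cases hp : ∀ p, f w p = 0 → f z p = 0
      · obtain ⟨x, hx, hwx⟩ := hadjust w x₁ (Q w) hx₁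
        refine ⟨x, hx, hwx ▸ hx₁, fun h0 => ?_⟩
        obtain ⟨y, hy⟩ := (hf.nondegenerate z hz0).2
        have h1 := hp (y + (-(f w y / f w x)) • x) (by
          rw [hf.bilinear.add_right, hf.bilinear.smul_right, neg_mul, div_mul_cancel₀ _ (hwx ▸ hx₁), add_neg_cancel])
        rw [hf.bilinear.add_right, hf.bilinear.smul_right, h0, mul_zero, add_zero] at h1
        exact hy h1
      push Not at hp
      obtain ⟨p, hwp, hzp⟩ := hp
      obtain ⟨δ, hδ0, hδ1⟩ := hδ
      set x₀ := (f w x₁)⁻¹ • x₁ + ((δ - (f w x₁)⁻¹ * f z x₁) / f z p) • p with hx₀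
      have e1 : f w x₀ = 1 := by
        rw [hx₀, hf.bilinear.add_right, hf.bilinear.smul_right, hf.bilinear.smul_right, hwp, mul_zero, add_zero,
          inv_mul_cancel₀ hx₁]
      have e2 : f z x₀ = δ := by
        rw [hx₀, hf.bilinear.add_right, hf.bilinear.smul_right, hf.bilinear.smul_right, div_mul_cancel₀ _ hzp]
        ring
      clear_value x₀
      have hδ2 : 1 + δ ≠ 0 := fun h => hδ1 (by linear_combination h - h2)
      refine ⟨x₀ + ((Q w - Q x₀) / (1 + δ)) • (w + z), ?_, ?_, ?_⟩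
      · rw [hQadd, hQ.smul, hf.bilinear.smul_right, hQadd w z, hne, ← hwz, hf.bilinear.add_right, hcomm x₀ w,
          hcomm x₀ z, e1, e2, show Q w + Q w + 0 = 0 by linear_combination (Q w) * h2]
        field_simp
        ring
      · rw [hf.bilinear.add_right, hf.bilinear.smul_right, hf.bilinear.add_right, hf.alternating, hne, e1]
        simp
      · rw [hf.bilinear.add_right, hf.bilinear.smul_right, hf.bilinear.add_right, hf.alternating, hcomm z w, hne, e2]
        simpa using hδ0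
    exact hlevel x z (hlevel w x hw hx.symm hxw) (hx.trans hwz) (by rw [hcomm]; exact hxz)
  have hall : ∀ v, v ≠ 0 → v ∈ S := by
    intro z hz
    by_cases hz1 : Q z = 1
    · exact hS1 z hz1
    have hc1 : c₀ + 1 ≠ 0 := fun h => hv₀1 (by linear_combination h - h2)
    obtain ⟨s, hs⟩ := hsq ((Q z - 1) / (c₀ + 1))
    have hs0 : s ≠ 0 := by
      intro h
      rw [h, zero_mul, eq_comm, div_eq_zero_iff] at hs
      exact hz1 (by linear_combination hs.resolve_right hc1)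
    obtain ⟨x₁, hx₁⟩ := (hf.nondegenerate v₀ hv₀0).2
    obtain ⟨w, hw, hvw⟩ := hadjust v₀ ((s / f v₀ x₁) • x₁) 1 (by
      rw [hf.bilinear.smul_right, div_mul_cancel₀ _ hx₁]; exact hs0)
    rw [hf.bilinear.smul_right, div_mul_cancel₀ _ hx₁] at hvw
    have hmem := hclose v₀ hv₀ w (hS1 w hw)
    rw [hvw] at hmem
    refine hlevel' _ z hmem ?_ (fun h0 => hs0 ?_) hz
    · rw [hQadd, hQ.smul, hw, ← hc₀, hf.bilinear.smul_right, hcomm w v₀, hvw]
      field_simp at hs
      linear_combination hs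
    · have h := congrArg (f w) h0
      rw [hf.bilinear.add_right, hf.alternating, zero_add, hf.bilinear.smul_right, hcomm w v₀, hvw,
        ← zero_smul F (0 : Fin 2 ⊕ Fin 2 → F), hf.bilinear.smul_right, zero_mul] at h
      exact mul_self_eq_zero.1 h
  -- generation
  let ψ : Matrix.symplecticGroup (Fin 2) F →* Matrix.GeneralLinearGroup (Fin 2 ⊕ Fin 2) F :=
    (Cfsg.spGL 2 F).subtype.comp (symplecticEquivSpGL 2 F).toMonoidHom
  have hgen : M.comap ψ = ⊤ := by
    rw [eq_top_iff, ← closure_sympTransvection_eq_top, Subgroup.closure_le]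
    rintro A ⟨w, c, hA⟩
    rw [SetLike.mem_coe, Subgroup.mem_comap]
    obtain ⟨s, hs⟩ := hsq c
    by_cases hw : s • w = 0
    · convert M.one_mem using 1
      refine Units.ext ?_
      show (A : Matrix (Fin 2 ⊕ Fin 2) (Fin 2 ⊕ Fin 2) F) = _
      rw [hA, Cfsg.sympTransvection, ← hs]
      rcases smul_eq_zero.1 hw with h | h
      · simp [h]
      · simp [h]
    obtain ⟨hdd, hmem⟩ := hall _ hw
    convert hmem using 1
    refine ext_mulVec fun x => ?_
    show (A : Matrix (Fin 2 ⊕ Fin 2) (Fin 2 ⊕ Fin 2) F) *ᵥ x = _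
    rw [hA, hT, Cfsg.sympTransvection, Matrix.add_mulVec, Matrix.one_mulVec, Matrix.smul_mulVec,
      Matrix.vecMulVec_mulVec, op_smul_eq_smul, hf.bilinear.smul_left, smul_smul, smul_smul,
      show (Matrix.J (Fin 2) F *ᵥ w) ⬝ᵥ x = f x w from dotProduct_comm _ _, hcomm x w, ← hs]
    congr 2
    ring
  intro x hx
  have hmem : (symplecticEquivSpGL 2 F).symm ⟨x, hx⟩ ∈ M.comap ψ := by rw [hgen]; exact Subgroup.mem_top _
  simpa [ψ] using hmem

end CfsgLib.Lie.SpFourEven
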