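import Cfsg.Agent.Lib.Lie.SpFourEven.Twisted

/-!
# Subfield groups of `Sp₄` in characteristic two: maximality
-/

set_option autoImplicit false

namespace CfsgLib.Lie.SpFourEven

open LinearMap (BilinForm)
open CfsgLib.Classical CfsgLib.Classical.Symp
open CfsgLib.Geo CfsgLib.Geo.SympSubfield

variable {F : Type*} [Field F] {V : Type*} [AddCommGroup V] [Module F V] {B : BilinForm F V}
variable {ι : Type*} [Fintype ι] {b : Module.Basis ι F V} {F₀ : Subfield F} {K : Subgroup (Sp B)}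

theorem tr_mem_of_all [Fintype F] (hs : Struct B b F₀ 2) (hall : AllTr hs.alt b F₀ K) :
    ∀ v c, tr hs.alt v c ∈ K := by
  have hA := hs.alt
  let Q : V → Prop := fun v => ∀ c, tr hA v c ∈ K
  have hsmul : ∀ {v}, Q v → ∀ k : F, Q (k • v) := fun {v} hv k c => by
    rw [tr_smul_vec]
    exact hv _
  have hadd : ∀ {v w}, Q v → Q w → B v w ≠ 0 → Q (v + w) := fun {v w} hv hw hne c => by
    have h1 := SympMax.tr_mem_of_conj hA (hw (B v w)⁻¹) hv c
    rwa [tr_apply, inv_mul_cancel₀ hne, one_smul] at h1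
  have hrat : ∀ w, Rat b F₀ w → Q w := hall
  have hline : ∀ {p q}, Rat b F₀ p → Rat b F₀ q → ∀ k : F, Q (p + k • q) := by
    intro p q hp hq k
    by_cases hne : B p q = 0
    · by_cases hpar : ∃ c : F, p = c • q
      · obtain ⟨c, rfl⟩ := hpar
        rw [← add_smul]
        exact hsmul (hrat q hq) _
      push Not at hpar
      obtain ⟨h, hh, hph, hqh⟩ := hs.dual hq hp hpar
      have hhq : B h q = 0 := by rw [swap hA q h, hqh, neg_zero]
      have h1 : sel hA h q k ∈ K :=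
        K.mul_mem (K.mul_mem (hall _ (hh.add hq) k) (hall h hh (-k))) (hall q hq (-k))
      have e : (sel hA h q k : V ≃ₗ[F] V) p = p + k • q := by
        rw [sel_apply hA hhq, hph, hne]
        module
      intro c
      rw [← e]
      exact SympMax.tr_mem_of_conj hA h1 (hrat p hp) c
    · by_cases hk : k = 0
      · rw [hk, zero_smul, add_zero]
        exact hrat p hp
      · exact hadd (hrat p hp) (hsmul (hrat q hq) k) (by simp [hk, hne])
  intro v
  rw [← b.sum_repr v]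
  classical
  induction (Finset.univ : Finset ι) using Finset.induction with
  | empty => intro c; simpa using hrat 0 Rat.zero c
  | insert j S hj ih =>
    rw [Finset.sum_insert hj, add_comm]
    set v' := ∑ i ∈ S, b.repr v i • b i
    set k := b.repr v j
    show Q _
    by_cases hv' : v' = 0
    · rw [hv', zero_add]
      exact hsmul (hrat _ (rat_basis j)) k
    by_cases hne : B v' (k • b j) = 0
    · by_cases hsum : v' + k • b j = 0
      · rw [hsum]
        exact hrat 0 Rat.zero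
      obtain ⟨z, hz, hz1, hz2⟩ : ∃ z, Rat b F₀ z ∧ B v' z ≠ 0 ∧ B (v' + k • b j) z ≠ 0 := by
        obtain ⟨i₁, h₁⟩ : ∃ i, B v' (b i) ≠ 0 := by
          by_contra! hc
          exact hv' (hs.ext fun i => by simp [hc i])
        obtain ⟨i₂, h₂⟩ : ∃ i, B (v' + k • b j) (b i) ≠ 0 := by
          by_contra! hc
          exact hsum (hs.ext fun i => by rw [hc i]; simp)
        by_cases e₁ : B (v' + k • b j) (b i₁) = 0
        · by_cases e₂ : B v' (b i₂) = 0
          · exact ⟨b i₁ + b i₂, (rat_basis _).add (rat_basis _), by rw [map_add, e₂, add_zero]; exact h₁,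
              by rw [map_add, e₁, zero_add]; exact h₂⟩
          · exact ⟨b i₂, rat_basis _, e₂, h₂⟩
        · exact ⟨b i₁, rat_basis _, h₁, e₁⟩
      have q1 : Q (v' + z) := hadd ih (hrat z hz) hz1
      have q2 : Q (k • b j - z) := by
        rw [show k • b j - z = (-1 : F) • (z + (-k) • b j) by module]
        exact hsmul (hline hz (rat_basis j) _) _
      rw [show v' + k • b j = (v' + z) + (k • b j - z) by abel]
      refine hadd q1 q2 fun h0 => hz2 ?_
      have e := swap hA z (k • b j)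
      rw [map_add, LinearMap.add_apply, map_sub, map_sub, hne, hA z] at h0
      rw [map_add, LinearMap.add_apply, e]
      linear_combination -h0
    · exact hadd ih (hsmul (hrat _ (rat_basis j)) k) hne

theorem tr_mem_of_perp [Fintype F] {r : ℕ} (hr : r.Prime) (hcard : Fintype.card F = Nat.card F₀ ^ r)
    (h20 : (2 : F) = 0) (hs : Struct B b F₀ 2) (hK : ∀ w, Rat b F₀ w → ∀ c ∈ F₀, tr hs.alt w c ∈ K) {u : V}
    (hu : ∀ c ∈ F₀, tr hs.alt u c ∈ K) (hnr : ∀ (δ : F) w, Rat b F₀ w → δ ^ 2 ∈ F₀ → u ≠ δ • w)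
    {w : V} (hw : Rat b F₀ w) (hw0 : w ≠ 0) (huw : B u w = 0) : ∀ v c, tr hs.alt v c ∈ K := by
  have hA := hs.alt
  by_cases hline : ∃ (δ : F) (x : V), Rat b F₀ x ∧ u = δ • x
  · obtain ⟨δ, x, hx, rfl⟩ := hline
    have hδ : δ ^ 2 ∉ F₀ := fun h => hnr δ x hx h rfl
    have hx0 : x ≠ 0 := fun h0 => hnr 1 0 Rat.zero (by simp [one_mem]) (by simp [h0])
    have h1 := hu 1 (one_mem _)
    rw [tr_smul_vec, mul_one] at h1
    exact tr_mem_of_all hs (all_of_tr hr hcard h20 hs hK hx hx0 hδ h1)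
  push Not at hline
  by_cases hpp : ∃ z y, Rat b F₀ z ∧ Rat b F₀ y ∧ B w z = 0 ∧ B w y = 0 ∧ B u z * B u y ∉ F₀
  · obtain ⟨z, y, hz, hy, hwz, hwy, hbad⟩ := hpp
    have hyw : B y w = 0 := by rw [swap hA w y, hwy, neg_zero]
    have hzw : B z w = 0 := by rw [swap hA w z, hwz, neg_zero]
    have huy : B u y ≠ 0 := fun h0 => hbad (by rw [h0, mul_zero]; exact zero_mem _)
    have hne : ∀ c : F, y ≠ c • w := fun c hc => huy (by rw [hc, LinearMap.map_smul, huw, smul_zero])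
    obtain ⟨h, hh, hyh, hwh⟩ := hs.dual hw hy hne
    -- first move along the rational vector
    have g1 : sel hA z w 1 ∈ K := sel_mem_rat hA hK hz hw (one_mem _)
    have e1 : (sel hA z w 1 : V ≃ₗ[F] V) u = u + B u z • w := by
      rw [sel_apply hA hzw, huw]
      module
    have x1 : tr hA w (1 * B u z ^ 2) * sel hA u w (1 * B u z) ∈ K := by
      have h1 : tr hA (u + B u z • w) 1 ∈ K := by
        rw [← e1, ← conj_tr]
        exact K.mul_mem (K.mul_mem g1 (hu 1 (one_mem _))) (K.inv_mem g1)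
      rw [tr_add_smul hA huw] at h1
      have := K.mul_mem (K.inv_mem (hu 1 (one_mem _))) h1
      rwa [inv_mul_cancel_left] at this
    have g2 : tr hA y 1 ∈ K := hK y hy 1 (one_mem _)
    have x2 := K.mul_mem (K.inv_mem x1) (K.mul_mem (K.mul_mem g2 x1) (K.inv_mem g2))
    have ee : (tr hA w (1 * B u z ^ 2) * sel hA u w (1 * B u z))⁻¹ *
        (tr hA y 1 * (tr hA w (1 * B u z ^ 2) * sel hA u w (1 * B u z)) * (tr hA y 1)⁻¹) =
        sel hA w y (B u z * B u y) * tr hA w (B u z ^ 2 * B u y ^ 2) := by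
      rw [inv_mul_eq_iff_eq_mul]
      have e2 : tr hA y 1 * (tr hA w (1 * B u z ^ 2) * sel hA u w (1 * B u z)) * (tr hA y 1)⁻¹ =
          tr hA w (1 * B u z ^ 2) * sel hA (u + B u y • y) w (1 * B u z) := by
        have := congrArg₂ (· * ·) (conj_tr hA (tr hA y 1) w (1 * B u z ^ 2)) (sel_conj hA (tr hA y 1) u w (1 * B u z))
        rw [tr_fix hA 1 hwy, tr_apply] at this
        simp only [one_mul] at this ⊢
        rw [← this]
        group
      rw [e2]
      refine sp_ext fun v => ?_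
      have e3 : B (u + B u y • y) w = 0 := by simp [huw, hyw]
      have hwu : B w u = 0 := by rw [swap hA u w, huw, neg_zero]
      simp only [Subgroup.coe_mul, LinearEquiv.mul_apply, tr_apply, sel_apply hA huw, sel_apply hA hwy,
        sel_apply hA e3, map_add, LinearMap.map_smul, LinearMap.add_apply, LinearMap.smul_apply, smul_eq_mul, hA w,
        hA u, hA y, huw, hwu, hwy, hyw, swap hA u y, mul_zero, add_zero, zero_mul]
      module
    rw [ee] at x2
    exact tr_mem_of_all hs (all_of_twisted hr hcard h20 hs hK hw hy hh hwy hyh hwh hw0 hbad x2)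
  push Not at hpp
  obtain ⟨h, hh, hwh⟩ := hs.partner hw hw0
  set k := B u h with hk
  have hproj : ∀ i, Rat b F₀ (b i - B w (b i) • h) ∧ B w (b i - B w (b i) • h) = 0 := fun i =>
    ⟨(rat_basis i).sub (hh.smul (hs.bil hw (rat_basis i))), by simp [hwh]⟩
  have hval : ∀ i, B (u - k • w) (b i) = B u (b i - B w (b i) • h) := fun i => by
    simp [hk]
    ring
  obtain ⟨i₀, hi₀⟩ : ∃ i, B (u - k • w) (b i) ≠ 0 := by
    by_contra! hc
    refine hline k w hw (hs.ext fun i => ?_)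
    have := hc i
    rw [map_sub, LinearMap.sub_apply, sub_eq_zero] at this
    exact this
  set δ := B (u - k • w) (b i₀) with hδ
  have hδ2 : δ * δ ∈ F₀ := by
    rw [hδ, hval]
    exact hpp _ _ (hproj i₀).1 (hproj i₀).1 (hproj i₀).2 (hproj i₀).2
  set u₀ := δ⁻¹ • (u - k • w) with hu₀
  have hu₀r : Rat b F₀ u₀ := hs.rat_of_bil fun i => by
    have e : B u₀ (b i) = (B (u - k • w) (b i) * δ) / (δ * δ) := by
      rw [hu₀, LinearMap.map_smul, LinearMap.smul_apply, smul_eq_mul]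
      field_simp
    rw [e, hδ, hval, hval]
    refine div_mem (hpp _ _ (hproj i).1 (hproj i₀).1 (hproj i).2 (hproj i₀).2) ?_
    exact hpp _ _ (hproj i₀).1 (hproj i₀).1 (hproj i₀).2 (hproj i₀).2
  have hu_eq : u = δ • u₀ + k • w := by
    rw [hu₀, smul_smul, mul_inv_cancel₀ hi₀, one_smul, sub_add_cancel]
  have hu₀w : B u₀ w = 0 := by
    rw [hu₀]
    simp [huw, hA w]
  have hwu₀ : B w u₀ = 0 := by rw [swap hA u₀ w, hu₀w, neg_zero]
  have hne : ∀ c : F, u₀ ≠ c • w := fun c hc =>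
    hline (δ * c + k) w hw (by rw [hu_eq, hc]; module)
  obtain ⟨h', hh', huh', hwh'⟩ := hs.dual hw hu₀r hne
  have hkey : δ * k ∉ F₀ := fun hmem => by
    refine hline δ (u₀ + (k / δ) • w) (hu₀r.add (hw.smul ?_)) (by rw [hu_eq, smul_add, smul_smul δ (k / δ) w, mul_div_cancel₀ _ hi₀])
    rw [← mul_div_mul_left k δ hi₀]
    exact div_mem hmem hδ2
  have h1 := hu 1 (one_mem _)
  rw [hu_eq, tr_add_smul hA (by simp [hu₀w]), tr_smul_vec] at h1
  have h2 := K.mul_mem (K.inv_mem (hK u₀ hu₀r (δ ^ 2 * 1) (by rw [mul_one, sq]; exact hδ2))) h1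
  rw [inv_mul_cancel_left] at h2
  have h3 : sel hA w u₀ (δ * k) * tr hA w (k ^ 2) ∈ K := by
    convert h2 using 1
    refine sp_ext fun v => ?_
    have e3 : B (δ • u₀) w = 0 := by simp [hu₀w]
    simp only [Subgroup.coe_mul, LinearEquiv.mul_apply, tr_apply, sel_apply hA hwu₀,
      sel_apply hA e3, map_add, LinearMap.map_smul, LinearMap.add_apply,
      LinearMap.smul_apply, smul_eq_mul, hA w, hA u₀, hwu₀, hu₀w, mul_zero, add_zero, one_mul]
    module
  exact tr_mem_of_all hs (all_of_twisted hr hcard h20 hs hK hw hu₀r hh' hwu₀ huh' hwh' hw0 hkey h3)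

theorem two_isotropic [Finite F] (hs : Struct B b F₀ 2) :
    ∃ Y H : Fin 2 → V, (∀ i, Rat b F₀ (Y i)) ∧ (∀ i, Rat b F₀ (H i)) ∧ (∀ i j, B (Y i) (Y j) = 0) ∧
      ∀ i j, B (Y i) (H j) = if i = j then 1 else 0 := by
  have hA := hs.alt
  obtain ⟨a₀, c₀, ha₀, hc₀, e₀, -⟩ := hs.pair (k := 0) (by omega) ![] (by simp)
  obtain ⟨a₁, q, ha₁, hq, e₁, j₁⟩ := hs.pair (k := 1) (by omega) ![a₀] (by simp [ha₀])
  have hp : B a₀ a₁ = 0 := (j₁ 0).1
  have hp' : B a₁ a₀ = 0 := by rw [swap hA a₀ a₁, hp, neg_zero]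
  have hq0 : B a₀ q = 0 := (j₁ 0).2
  obtain ⟨h₁, hh₁, d₁, d₁'⟩ := hs.dual ha₀ ha₁ fun c hc => by
    rw [hc, LinearMap.map_smul, LinearMap.smul_apply, hq0, smul_zero] at e₁
    exact zero_ne_one e₁
  obtain ⟨h₀, hh₀, d₀, d₀'⟩ := hs.dual ha₁ ha₀ fun c hc => by
    by_cases hc0 : c = 0
    · rw [hc, hc0, zero_smul, map_zero] at e₀
      exact zero_ne_one e₀
    · rw [hc, LinearMap.map_smul, LinearMap.smul_apply, e₁, smul_eq_mul, mul_one] at hq0
      exact hc0 hq0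
  refine ⟨![a₀, a₁], ![h₀, h₁], by simp [Fin.forall_fin_two, ha₀, ha₁],
    by simp [Fin.forall_fin_two, hh₀, hh₁], ?_, ?_⟩
  · intro i j
    fin_cases i <;> fin_cases j <;> simp [hA _, hp, hp']
  · intro i j
    fin_cases i <;> fin_cases j <;> simp [d₀, d₀', d₁, d₁']

theorem exists_perp [Fintype F] [FiniteDimensional F V] {r : ℕ} (hr : r.Prime)
    (hcard : Fintype.card F = Nat.card F₀ ^ r)
    (h20 : (2 : F) = 0) (hs : Struct B b F₀ 2) (hK : ∀ w, Rat b F₀ w → ∀ c ∈ F₀, tr hs.alt w c ∈ K) {u : V}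
    (hu : ∀ c ∈ F₀, tr hs.alt u c ∈ K) (hinj : ∀ w, Rat b F₀ w → B u w = 0 → w = 0) :
    ∃ g ∈ K, ∃ w, Rat b F₀ w ∧ w ≠ 0 ∧ B ((g : V ≃ₗ[F] V) u) w = 0 ∧
      ∀ (δ : F) x, Rat b F₀ x → δ ^ 2 ∈ F₀ → (g : V ≃ₗ[F] V) u ≠ δ • x := by
  classical
  have hA := hs.alt
  have hq : 1 < Nat.card F₀ := Finite.one_lt_card
  have hr14 : 2 * 2 ≤ r := by
    have h1 : Nat.card (ι → F₀) ≤ Nat.card F := Nat.card_le_card_of_injective (fun c => B u (emb b F₀ c))
      fun c d e => emb_injective (b := b) (sub_eq_zero.1 (hinj _ ((rat_emb c).sub (rat_emb d)) (by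
        rw [map_sub]; exact sub_eq_zero.2 e)))
    rw [Nat.card_fun, Nat.card_eq_fintype_card (α := ι), hs.card, Nat.card_eq_fintype_card (α := F), hcard] at h1
    exact (Nat.pow_le_pow_iff_right hq).1 h1
  obtain ⟨Y, H, hY, hH, hYY, hYH⟩ := two_isotropic hs
  let ψ : (Fin 2 → F₀) → V := fun c => ∑ i, (c i : F) • Y i
  have hψr : ∀ c, Rat b F₀ (ψ c) := fun c => rat_sum _ fun i _ => (hY i).smul (c i).2
  let φ : (Fin 2 → F₀) →+ F :=
    { toFun := fun c => B u (ψ c)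
      map_zero' := by simp [ψ]
      map_add' := fun c d => by simp [ψ, Fin.sum_univ_two]; ring }
  have hψH : ∀ c j, B (ψ c) (H j) = (c j : F) := fun c j => by
    fin_cases j <;> simp [ψ, Fin.sum_univ_two, hYH]
  have hψ0 : ∀ c, ψ c = 0 → c = 0 := fun c h => funext fun j => Subtype.ext (by
    rw [← hψH c j, h]; simp)
  have hφ : Function.Injective φ := (injective_iff_map_eq_zero φ).2 fun c h => hψ0 c (hinj _ (hψr c) h)
  set YF : Submodule F V := Submodule.span F (Set.range Y) with hYF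
  have hψY : ∀ c, ψ c ∈ YF := fun c =>
    Submodule.sum_mem _ fun i _ => YF.smul_mem _ (Submodule.subset_span ⟨i, rfl⟩)
  have hiso : ∀ x ∈ YF, ∀ y ∈ YF, B x y = 0 := by
    intro x hx y hy
    obtain ⟨a, rfl⟩ := (Submodule.mem_span_range_iff_exists_fun F).1 hx
    obtain ⟨c, rfl⟩ := (Submodule.mem_span_range_iff_exists_fun F).1 hy
    simp [map_sum, hYY]
  have hY0 : Y 0 ≠ 0 := fun h => by have := hYH 0 0; simp [h] at this
  have ht : B u (Y 0) ≠ 0 := fun h => hY0 (hinj _ (hY 0) h)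
  set e := (B u (Y 0))⁻¹ • Y 0 with he
  have heY : e ∈ YF := YF.smul_mem _ (Submodule.subset_span ⟨0, rfl⟩)
  have hue : B u e = 1 := by simp [he, ht]
  have heu : B e u = -1 := by rw [swap hA u e, hue]
  set X : Submodule F V := Submodule.span F {u} ⊔ YF with hX
  set R : Submodule F V := YF ⊓ LinearMap.ker (B u) with hR
  have huX : u ∈ X := Submodule.mem_sup_left (Submodule.mem_span_singleton_self u)
  have hYX : ∀ y ∈ YF, y ∈ X := fun y hy => Submodule.mem_sup_right hy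
  have hRu : ∀ z ∈ R, B u z = 0 := fun z hz => LinearMap.mem_ker.1 hz.2
  have hRe : ∀ z ∈ R, B z e = 0 := fun z hz => hiso z hz.1 e heY
  have hdec : ∀ x ∈ X, x - B x e • u - B u x • e ∈ R := by
    intro x hx
    obtain ⟨a, ha, y, hy, rfl⟩ := Submodule.mem_sup.1 hx
    obtain ⟨t, rfl⟩ := Submodule.mem_span_singleton.1 ha
    have h1 : B (t • u + y) e = t := by simp [hue, hiso y hy e heY]
    have h2 : B u (t • u + y) = B u y := by simp [hA u]
    rw [h1, h2, add_sub_cancel_left]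
    exact ⟨YF.sub_mem hy (YF.smul_mem _ heY), by simp [hue]⟩
  let fixR : Subgroup (Sp B) :=
    { carrier := {g | ∀ z ∈ R, (g : V ≃ₗ[F] V) z = z}
      mul_mem' := fun {g g'} hg hg' z hz => by simp [hg' z hz, hg z hz]
      one_mem' := fun z _ => rfl
      inv_mem' := fun {g} hg z hz => by
        conv_lhs => rw [← hg z hz]
        simp [LinearEquiv.coe_inv] }
  let G : Subgroup (Sp B) := K ⊓ SympMax.stab B X ⊓ fixR
  have hGX : ∀ g : G, ∀ x ∈ X, ((g : Sp B) : V ≃ₗ[F] V) x ∈ X := fun g x hx => (g.2.1.2 x).1 hx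
  let pm : Sp B → Matrix (Fin 2) (Fin 2) F := fun g =>
    !![B ((g : V ≃ₗ[F] V) u) e, B ((g : V ≃ₗ[F] V) e) e; B u ((g : V ≃ₗ[F] V) u), B u ((g : V ≃ₗ[F] V) e)]
  have himg : ∀ g : G, ∀ x ∈ X, ∃ z ∈ R, ((g : Sp B) : V ≃ₗ[F] V) x =
      B x e • ((g : Sp B) : V ≃ₗ[F] V) u + B u x • ((g : Sp B) : V ≃ₗ[F] V) e + z := by
    intro g x hx
    refine ⟨_, hdec x hx, ?_⟩
    have hfix := g.2.2 _ (hdec x hx)
    simp only [map_sub, LinearEquiv.map_smul] at hfix
    rw [← hfix]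
    abel
  have hpm_mul : ∀ g g' : G, pm ((g : Sp B) * g') = pm g * pm g' := by
    intro g g'
    obtain ⟨z₁, hz₁, e₁⟩ := himg g _ (hGX g' u huX)
    obtain ⟨z₂, hz₂, e₂⟩ := himg g _ (hGX g' e (hYX e heY))
    ext i j
    fin_cases i <;> fin_cases j <;>
      simp [pm, Matrix.mul_apply, Fin.sum_univ_two, e₁, e₂, hRe _ hz₁, hRe _ hz₂, hRu _ hz₁, hRu _ hz₂] <;> ring
  have hpm_det : ∀ g : G, (pm g).det = 1 := by
    intro g
    have hdu := hdec _ (hGX g u huX)
    have hde := hdec _ (hGX g e (hYX e heY))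
    obtain ⟨z₁, hz₁, e₁⟩ : ∃ z ∈ R, ((g : Sp B) : V ≃ₗ[F] V) u = pm g 0 0 • u + pm g 1 0 • e + z :=
      ⟨_, hdu, by simp [pm]⟩
    obtain ⟨z₂, hz₂, e₂⟩ : ∃ z ∈ R, ((g : Sp B) : V ≃ₗ[F] V) e = pm g 0 1 • u + pm g 1 1 • e + z :=
      ⟨_, hde, by simp [pm]⟩
    have h1 : B (((g : Sp B) : V ≃ₗ[F] V) u) (((g : Sp B) : V ≃ₗ[F] V) e) = 1 := ((g : Sp B).2 u e).trans hue
    have hzu : ∀ z ∈ R, B z u = 0 := fun z hz => by rw [swap hA u z, hRu z hz, neg_zero]
    have hez : ∀ z ∈ R, B e z = 0 := fun z hz => hiso e heY z hz.1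
    rw [e₁, e₂] at h1
    simp [hue, heu, hA u, hA e, hRu _ hz₂, hez _ hz₂, hzu _ hz₁, hRe _ hz₁, hiso z₁ hz₁.1 z₂ hz₂.1] at h1
    rw [Matrix.det_fin_two]
    linear_combination h1
  let π : G →* Matrix.SpecialLinearGroup (Fin 2) F :=
    { toFun := fun g => ⟨pm g, hpm_det g⟩
      map_one' := Subtype.ext (by
        ext i j
        fin_cases i <;> fin_cases j <;> simp [pm, hue, hA u, hA e])
      map_mul' := fun g g' => Subtype.ext (hpm_mul g g') }
  have mkG : ∀ {v} c, (v = u ∨ v ∈ YF) → tr hA v c ∈ K → tr hA v c ∈ G := by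
    intro v c hv hvK
    refine ⟨⟨hvK, SympMax.mem_stab_of_maps fun x hx => ?_⟩, fun z hz => ?_⟩
    · rw [tr_apply]
      exact X.add_mem hx (X.smul_mem _ (hv.elim (fun h => h ▸ huX) (hYX v)))
    · refine tr_fix hA c ?_
      rcases hv with rfl | hv
      · rw [swap hA v z, hRu z hz, neg_zero]
      · exact hiso z hz.1 v hv
  have hup : SLTwoGen.up (-1 : F) ∈ π.range := by
    refine ⟨⟨_, mkG 1 (Or.inl rfl) (hu 1 (one_mem _))⟩, Subtype.ext ?_⟩
    show pm (tr hA u 1) = !![1, -1; 0, 1]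
    ext i j
    fin_cases i <;> fin_cases j <;> simp [pm, tr_apply, hue, heu, hA u, hA e]
  let B' : AddSubgroup F := AddSubgroup.closure {x | ∃ c ∈ F₀, ∃ a, x = c * φ a ^ 2}
  have hlo : ∀ x ∈ B', SLTwoGen.lo x ∈ π.range := by
    intro x hx
    induction hx using AddSubgroup.closure_induction with
    | mem y hy =>
      obtain ⟨c, hc, a, rfl⟩ := hy
      refine ⟨⟨_, mkG c (Or.inr (hψY a)) (hK _ (hψr a) c hc)⟩, Subtype.ext ?_⟩
      show pm (tr hA (ψ a) c) = !![1, 0; c * B u (ψ a) ^ 2, 1]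
      ext i j
      fin_cases i <;> fin_cases j <;>
        simp [pm, tr_apply, hue, hA u, hA e, hiso (ψ a) (hψY a) e heY, hiso e heY (ψ a) (hψY a)] <;> ring
    | zero =>
      rw [show SLTwoGen.lo (0 : F) = 1 from Subtype.ext (by
        ext i j
        fin_cases i <;> fin_cases j <;> simp [SLTwoGen.lo])]
      exact one_mem _
    | add y z _ _ hy hz => rw [← SLTwoGen.lo_mul]; exact mul_mem hy hz
    | neg y _ hy =>
      rw [show SLTwoGen.lo (-y) = (SLTwoGen.lo y)⁻¹ from (inv_eq_of_mul_eq_one_right (by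
        rw [SLTwoGen.lo_mul, add_neg_cancel]
        refine Subtype.ext ?_
        ext i j
        fin_cases i <;> fin_cases j <;> simp [SLTwoGen.lo])).symm]
      exact inv_mem hy
  have hB'₀ : ∀ c ∈ F₀, ∀ x ∈ B', c * x ∈ B' := by
    intro c hc x hx
    induction hx using AddSubgroup.closure_induction with
    | mem y hy =>
      obtain ⟨d, hd, a, rfl⟩ := hy
      exact AddSubgroup.subset_closure ⟨c * d, mul_mem hc hd, a, (mul_assoc _ _ _).symm⟩
    | zero => simp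
    | add y z _ _ hy hz => rw [mul_add]; exact add_mem hy hz
    | neg y _ hy => rw [mul_neg]; exact neg_mem hy
  have hB'c : Nat.card F₀ ^ 2 ≤ Nat.card B' := by
    have hsq : ∀ a, φ a ^ 2 ∈ B' := fun a =>
      AddSubgroup.subset_closure ⟨1, one_mem _, a, (one_mul _).symm⟩
    have e : Nat.card (Fin 2 → F₀) = Nat.card F₀ ^ 2 := by rw [Nat.card_fun, Nat.card_fin]
    rw [← e]
    refine Nat.card_le_card_of_injective (fun a => (⟨φ a ^ 2, hsq a⟩ : B')) fun a c h => hφ ?_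
    rcases sq_eq_sq_iff_eq_or_eq_neg.1 (congrArg Subtype.val h) with h' | h'
    · exact h'
    · rw [h', neg_eq_self_of_two h20]
  have htop := eq_top_of_root_groups_two F₀ hr hcard π.range (neg_ne_zero.2 one_ne_zero) hup B' hB'₀ hlo hB'c h20
  obtain ⟨lam, hlam⟩ : ∃ lam : F, lam ∉ Set.range φ := by
    by_contra! hc
    have h1 := Nat.card_le_card_of_surjective φ fun x => hc x
    rw [Nat.card_fun, Nat.card_fin, Nat.card_eq_fintype_card (α := F), hcard] at h1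
    have := (Nat.pow_le_pow_iff_right hq).1 h1
    omega
  have hl0 : lam ≠ 0 := fun h => hlam ⟨0, by rw [h, map_zero]⟩
  obtain ⟨S₀, hS₀⟩ : ∃ S : Matrix.SpecialLinearGroup (Fin 2) F, (S : Matrix (Fin 2) (Fin 2) F) = !![0, -lam⁻¹; lam, 0] :=
    ⟨⟨!![0, -lam⁻¹; lam, 0], by rw [Matrix.det_fin_two_of]; field_simp; ring⟩, rfl⟩
  have hmem : S₀ ∈ π.range := htop ▸ Subgroup.mem_top _
  obtain ⟨g, hg⟩ := hmem
  have hpg : pm g = !![0, -lam⁻¹; lam, 0] := (congrArg Subtype.val hg).trans hS₀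
  have c0 : B (((g : Sp B) : V ≃ₗ[F] V) u) e = 0 := congrFun (congrFun hpg 0) 0
  have c1 : B u (((g : Sp B) : V ≃ₗ[F] V) u) = lam := congrFun (congrFun hpg 1) 0
  have hgY : ((g : Sp B) : V ≃ₗ[F] V) u ∈ YF := by
    have := hdec _ (hGX g u huX)
    rw [c0, c1, zero_smul, sub_zero] at this
    simpa using YF.add_mem this.1 (YF.smul_mem lam heY)
  refine ⟨g, g.2.1.1, Y 0, hY 0, hY0, hiso _ hgY _ (Submodule.subset_span ⟨0, rfl⟩), fun δ x hx hδ heq => ?_⟩
  have hδ₀ : δ ∈ F₀ := mem_of_sq_mem hr hcard (by omega) hδ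
  have hrat : Rat b F₀ (((g : Sp B) : V ≃ₗ[F] V) u) := heq ▸ hx.smul hδ₀
  obtain ⟨a, ha⟩ := (Submodule.mem_span_range_iff_exists_fun F).1 hgY
  have hacoef : ∀ j, a j ∈ F₀ := fun j => by
    have e2 : B (((g : Sp B) : V ≃ₗ[F] V) u) (H j) = a j := by
      rw [← ha]
      fin_cases j <;> simp [Fin.sum_univ_two, hYH]
    exact e2 ▸ hs.bil hrat (hH j)
  refine hlam ⟨fun j => ⟨a j, hacoef j⟩, ?_⟩
  show B u (ψ _) = lam
  rw [← c1, ← ha]

theorem eq_top_of_not_semi [Fintype F] [FiniteDimensional F V] {r : ℕ} (hr : r.Prime)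
    (hcard : Fintype.card F = Nat.card F₀ ^ r) (h20 : (2 : F) = 0) (hs : Struct B b F₀ 2)
    (hK : ∀ w, Rat b F₀ w → ∀ c ∈ F₀, tr hs.alt w c ∈ K) {g : Sp B} (hgK : g ∈ K) (hg : ¬ Semi b F₀ g) :
    K = ⊤ := by
  have hne : Nonempty ι := Fintype.card_pos_iff.1 (by rw [hs.card]; omega)
  obtain ⟨w₀, hw₀, hoff⟩ := exists_off_line g hg (Classical.arbitrary ι)
  set u := (g : V ≃ₗ[F] V) w₀ with hudef
  have hu : ∀ c ∈ F₀, tr hs.alt u c ∈ K := fun c hc => by
    rw [hudef, ← conj_tr]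
    exact K.mul_mem (K.mul_mem hgK (hK _ hw₀ c hc)) (K.inv_mem hgK)
  refine SympMax.eq_top_of_tr hs.alt hs.nondeg ?_
  by_cases hperp : ∃ w, Rat b F₀ w ∧ w ≠ 0 ∧ B u w = 0
  · obtain ⟨w, hw, hw0, huw⟩ := hperp
    exact tr_mem_of_perp hr hcard h20 hs hK hu (fun δ x hx _ => hoff δ x hx) hw hw0 huw
  push Not at hperp
  obtain ⟨h, hhK, w, hw, hw0, huw, hnr⟩ := exists_perp hr hcard h20 hs hK hu fun w hw h0 => by
    by_contra hw0
    exact hperp w hw hw0 h0
  refine tr_mem_of_perp hr hcard h20 hs hK (fun c hc => ?_) hnr hw hw0 huw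
  rw [← conj_tr]
  exact K.mul_mem (K.mul_mem hhK (hu c hc)) (K.inv_mem hhK)


open Matrix

/-- Subfield groups of `Sp₄` in characteristic two are maximal. -/
theorem isMaximalIn_subfield {F : Type*} [Field F] [Fintype F] (h20 : (2 : F) = 0) (F₀ : Subfield F) {r : ℕ}
    (hr : r.Prime) (hcard : Fintype.card F = Nat.card F₀ ^ r)
    (P : Matrix.GeneralLinearGroup (Fin 2 ⊕ Fin 2) F) (ζ : F) (hζ : ζ ≠ 0)
    (hP : Cfsg.Geo.IsFormRationalStructure (Cfsg.sympForm 2 F) F₀ ζ P) :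
    Cfsg.Geo.IsMaximalIn (Cfsg.spGL 2 F) (Cfsg.Geo.subfieldSubgroup F₀ P ⊓ Cfsg.spGL 2 F) := by
  classical
  haveI : Nonempty (Fin 2 ⊕ Fin 2) := ⟨Sum.inl 0⟩
  set B := ζ • sympBil 2 F with hBdef
  have hBv : ∀ u v, B u v = ζ * Cfsg.sympForm 2 F u v := fun u v => by
    simp [hBdef, sympBil_apply]
  have hIso : Sp (sympBil 2 F) = Sp B := by
    ext g
    simp [mem_Iso, hBdef, hζ]
  let eP : (Fin 2 ⊕ Fin 2 → F) ≃ₗ[F] (Fin 2 ⊕ Fin 2 → F) :=
    { toFun := fun x => ((P⁻¹ : Matrix.GeneralLinearGroup (Fin 2 ⊕ Fin 2) F) : Matrix _ _ F) *ᵥ x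
      map_add' := Matrix.mulVec_add _
      map_smul' := fun c x => Matrix.mulVec_smul _ c x
      invFun := fun x => (P : Matrix (Fin 2 ⊕ Fin 2) (Fin 2 ⊕ Fin 2) F) *ᵥ x
      left_inv := fun x => by simp only; rw [Matrix.mulVec_mulVec, Units.mul_inv, Matrix.one_mulVec]
      right_inv := fun x => by simp only; rw [Matrix.mulVec_mulVec, Units.inv_mul, Matrix.one_mulVec] }
  set b := Module.Basis.ofEquivFun eP with hb
  have hbi : ∀ i, b i = (P : Matrix (Fin 2 ⊕ Fin 2) (Fin 2 ⊕ Fin 2) F) *ᵥ Pi.single i 1 := fun i => by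
    rw [hb, Module.Basis.coe_ofEquivFun]
    rfl
  have hrepr : ∀ x i, b.repr x i =
      (((P⁻¹ : Matrix.GeneralLinearGroup (Fin 2 ⊕ Fin 2) F) : Matrix _ _ F) *ᵥ x) i := fun x i => by
    rw [hb, Module.Basis.ofEquivFun_repr_apply]
    rfl
  have hsingle : ∀ i j : Fin 2 ⊕ Fin 2, (Pi.single i 1 : Fin 2 ⊕ Fin 2 → F) j ∈ F₀ := fun i j => by
    rw [Pi.single_apply]
    split_ifs
    · exact one_mem _
    · exact zero_mem _
  have hs : Struct B b F₀ 2 := by
    refine ⟨fun v => ?_, ⟨fun x hx => ?_, fun x hx => ?_⟩, fun i j => ?_, ?_⟩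
    · show B v v = 0
      simp [hBdef, sympBil_isAlt 2 F v]
    · refine (sympBil_nondegenerate 2 F).1 x fun y => ?_
      simpa [hBdef, hζ] using hx y
    · refine (sympBil_nondegenerate 2 F).2 x fun y => ?_
      simpa [hBdef, hζ] using hx y
    · rw [hBv, hbi, hbi]
      exact hP _ _ (hsingle i) (hsingle j)
    · rw [Fintype.card_sum, Fintype.card_fin, two_mul]
  let e : Cfsg.spGL 2 F ≃* Sp B :=
    ((preservingEquivIso (Cfsg.sympForm 2 F)).trans (MulEquiv.subgroupCongr (iso_sympForm_eq 2 F))).trans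
      (MulEquiv.subgroupCongr hIso)
  have hact : ∀ (g : Cfsg.spGL 2 F) x, ((g : Matrix.GeneralLinearGroup (Fin 2 ⊕ Fin 2) F) :
      Matrix (Fin 2 ⊕ Fin 2) (Fin 2 ⊕ Fin 2) F) *ᵥ x = (e g : (Fin 2 ⊕ Fin 2 → F) ≃ₗ[F] (Fin 2 ⊕ Fin 2 → F)) x :=
    fun g x => rfl
  have hentry : ∀ (g : Cfsg.spGL 2 F) i j,
      ((P⁻¹ * g * P : Matrix.GeneralLinearGroup (Fin 2 ⊕ Fin 2) F) : Matrix _ _ F) i j =
        b.repr ((e g : (Fin 2 ⊕ Fin 2 → F) ≃ₗ[F] (Fin 2 ⊕ Fin 2 → F)) (b j)) i := fun g i j => by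
    rw [hrepr, ← hact, hbi, Matrix.mulVec_mulVec, Matrix.mulVec_mulVec, Matrix.mulVec_single_one, Units.val_mul,
      Units.val_mul]
    first
      | rfl
      | (simp [Matrix.mul_assoc])
  have hin : ∀ g : Cfsg.spGL 2 F, (g : Matrix.GeneralLinearGroup (Fin 2 ⊕ Fin 2) F) ∈
      Cfsg.Geo.subfieldSubgroup F₀ P ↔ Semi b F₀ (e g) := by
    intro g
    constructor
    · rintro ⟨h, hh, hhg⟩
      obtain ⟨_, ⟨A, rfl⟩, c, hc, rfl⟩ := Subgroup.mem_sup_of_normal_right.1 hh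
      obtain ⟨s, hsc⟩ := (Cfsg.Geo.mem_scalars_iff c).1 hc
      have hv : ∀ i j, ((P⁻¹ * g * P : Matrix.GeneralLinearGroup (Fin 2 ⊕ Fin 2) F) : Matrix _ _ F) i j =
          (s : F) * ((A : Matrix (Fin 2 ⊕ Fin 2) (Fin 2 ⊕ Fin 2) F₀) i j : F) := by
        intro i j
        rw [← hhg]
        simp only [MulEquiv.toMonoidHom_eq_coe, MonoidHom.coe_coe, MulAut.conj_apply]
        rw [← mul_assoc, ← mul_assoc, inv_mul_cancel, one_mul, inv_mul_cancel_right, Units.val_mul, hsc,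
          Matrix.mul_smul, Matrix.mul_one]
        rfl
      refine ⟨s, s.ne_zero, fun j => ⟨(s : F)⁻¹ • (e g : (Fin 2 ⊕ Fin 2 → F) ≃ₗ[F] _) (b j), fun i => ?_, ?_⟩⟩
      · rw [LinearEquiv.map_smul, Finsupp.smul_apply, ← hentry, hv, smul_eq_mul, inv_mul_cancel_left₀ s.ne_zero]
        exact SetLike.coe_mem _
      · rw [smul_inv_smul₀ s.ne_zero]
    · rintro ⟨δ, hδ, hg⟩
      refine mem_subfieldSubgroup_of_conj hδ fun i j => ?_
      obtain ⟨x, hx, hgx⟩ := hg j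
      rw [hentry, hgx, LinearEquiv.map_smul, Finsupp.smul_apply, smul_eq_mul, mul_div_cancel_left₀ _ hδ]
      exact hx i
  refine ⟨lt_of_le_of_ne inf_le_right fun heq => ?_, fun M hM hMS => ?_⟩
  · obtain ⟨σ, hσ⟩ : ∃ σ : F, σ ∉ F₀ := by
      by_contra! hc
      have h1 : Nat.card F ≤ Nat.card F₀ := Nat.card_le_card_of_injective (fun x => (⟨x, hc x⟩ : F₀)) fun a b h =>
        congrArg Subtype.val h
      rw [Nat.card_eq_fintype_card, hcard] at h1
      have := Nat.pow_lt_pow_right (show 1 < Nat.card F₀ from Finite.one_lt_card) hr.one_lt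
      rw [pow_one] at this
      omega
    obtain ⟨i⟩ : Nonempty (Fin 2 ⊕ Fin 2) := inferInstance
    obtain ⟨j, hj⟩ : ∃ j, B (b j) (b i) ≠ 0 := by
      by_contra! hc
      refine b.ne_zero i (hs.nondeg.2 _ fun y => ?_)
      rw [show B y (b i) = (B.flip (b i)) y from rfl, show B.flip (b i) = 0 from b.ext fun j => by simpa using hc j]
      rfl
    obtain ⟨δ, hδ, hg⟩ := (hin (e.symm (tr hs.alt (b i) σ))).1 (heq.ge (e.symm _).2).1
    rw [MulEquiv.apply_symm_apply] at hg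
    have hδ₀ : δ ∈ F₀ := by
      obtain ⟨x, hx, hgx⟩ := hg i
      rw [tr_fix hs.alt σ (hs.alt (b i))] at hgx
      have := congrArg (fun v => b.repr v i) hgx
      simp at this
      rw [show δ = (b.repr x i)⁻¹ from eq_inv_of_mul_eq_one_left this.symm]
      exact inv_mem (hx i)
    obtain ⟨x, hx, hgx⟩ := hg j
    have hji : j ≠ i := fun h => hj (by rw [h, hs.alt])
    rw [tr_apply] at hgx
    have := congrArg (fun v => b.repr v i) hgx
    simp [hji] at this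
    refine hσ ?_
    rw [← mul_div_cancel_right₀ σ hj, this]
    exact div_mem (mul_mem hδ₀ (hx i)) (hs.val j i)
  refine (eq_or_lt_of_le hM).imp Eq.symm fun hlt => le_antisymm hMS ?_
  obtain ⟨g, hgM, hgn⟩ := SetLike.exists_of_lt hlt
  have htop := eq_top_of_not_semi (K := (M.subgroupOf (Cfsg.spGL 2 F)).map e.toMonoidHom) hr hcard h20 hs
    (fun w hw c hc => ⟨e.symm (tr hs.alt w c), hM ⟨(hin _).2 ?_, (e.symm (tr hs.alt w c)).2⟩,
      MulEquiv.apply_symm_apply e _⟩)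
    (g := e ⟨g, hMS hgM⟩) ⟨⟨g, hMS hgM⟩, hgM, rfl⟩ (fun h => hgn ⟨(hin ⟨g, hMS hgM⟩).2 h, hMS hgM⟩)
  · intro x hx
    obtain ⟨y, hy, hye⟩ := (htop.ge (Subgroup.mem_top (e ⟨x, hx⟩)) :)
    have : y = ⟨x, hx⟩ := e.injective hye
    subst this
    exact hy
  · rw [MulEquiv.apply_symm_apply]
    exact ⟨1, one_ne_zero, fun i => ⟨_, by
      rw [tr_apply]
      exact (rat_basis i).add (hw.smul (mul_mem hc (hs.bil (rat_basis i) hw))), (one_smul _ _).symm⟩⟩

end CfsgLib.Lie.SpFourEven
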