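import Cfsg.Agent.Lib.Geo.SympSubfieldMaximal
import Cfsg.Agent.Lib.Lie.SpFourEven.SLTwo

/-!
# Subfield groups of `Sp₄` in characteristic two are maximal
-/

set_option autoImplicit false

namespace CfsgLib.Lie.SpFourEven

open LinearMap (BilinForm)
open CfsgLib.Classical CfsgLib.Classical.Symp
open CfsgLib.Geo CfsgLib.Geo.SympSubfield

variable {F : Type*} [Field F] {V : Type*} [AddCommGroup V] [Module F V] {B : BilinForm F V}
variable {ι : Type*} [Fintype ι] {b : Module.Basis ι F V} {F₀ : Subfield F} {K : Subgroup (Sp B)}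

theorem sq_mem_iff_of_two [Fintype F] (h20 : (2 : F) = 0) {c : F} : c ^ 2 ∈ F₀ ↔ c ∈ F₀ := by
  refine ⟨fun h => ?_, fun h => pow_mem h 2⟩
  haveI : CharP F 2 := CharTwo.of_one_ne_zero_of_two_eq_zero one_ne_zero h20
  haveI : CharP F₀ 2 := CharTwo.of_one_ne_zero_of_two_eq_zero one_ne_zero (Subtype.ext h20)
  obtain ⟨d, hd⟩ := (isSquare_iff_exists_mul_self _).1
    (FiniteField.isSquare_of_char_two (ringChar.eq F₀ 2) (⟨c ^ 2, h⟩ : F₀))
  have h1 : c ^ 2 = (d : F) ^ 2 := by rw [sq (d : F)]; exact congrArg Subtype.val hd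
  rw [← frobenius_def, ← frobenius_def] at h1
  exact (frobenius_inj F 2 h1) ▸ d.2

theorem exists_sq_of_two [Fintype F] (h20 : (2 : F) = 0) {c : F} (hc : c ∈ F₀) : ∃ d ∈ F₀, c = d ^ 2 := by
  haveI : CharP F 2 := CharTwo.of_one_ne_zero_of_two_eq_zero one_ne_zero h20
  obtain ⟨d, hd⟩ := (isSquare_iff_exists_mul_self _).1 (FiniteField.isSquare_of_char_two (ringChar.eq F 2) c)
  refine ⟨d, (sq_mem_iff_of_two h20).1 ?_, by rw [hd, sq]⟩
  rwa [sq, ← hd]

theorem neg_eq_self_of_two (h20 : (2 : F) = 0) (c : F) : -c = c := by linear_combination (-c) * h20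

theorem swap_two (h20 : (2 : F) = 0) (hA : B.IsAlt) (u v : V) : B v u = B u v := by
  rw [swap hA u v, neg_eq_self_of_two h20]

theorem add_self_two (h20 : (2 : F) = 0) (v : V) : v + v = 0 := by
  rw [← two_smul F v, h20, zero_smul]

theorem tr_move (hA : B.IsAlt) {g : Sp B} (hg : g ∈ K) {v w : V} {c : F}
    (h : (g : V ≃ₗ[F] V) v = w) (hv : tr hA v c ∈ K) : tr hA w c ∈ K := by
  rw [← h, ← conj_tr]
  exact K.mul_mem (K.mul_mem hg hv) (K.inv_mem hg)

/-- Every scalar occurs for every rational centre. -/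
def AllTr (hA : B.IsAlt) (b : Module.Basis ι F V) (F₀ : Subfield F) (K : Subgroup (Sp B)) : Prop :=
  ∀ w, Rat b F₀ w → ∀ c, tr hA w c ∈ K

theorem tr_rat_transfer (h20 : (2 : F) = 0) (hs : Struct B b F₀ 2)
    (hK : ∀ w, Rat b F₀ w → ∀ c ∈ F₀, tr hs.alt w c ∈ K) {p : V} (hp : Rat b F₀ p) (hp0 : p ≠ 0) {σ : F}
    (hσ : tr hs.alt p σ ∈ K) {q : V} (hq : Rat b F₀ q) : tr hs.alt q σ ∈ K := by
  have hA := hs.alt
  have step : ∀ {p q : V}, Rat b F₀ p → Rat b F₀ q → B p q ≠ 0 → tr hA p σ ∈ K → tr hA q σ ∈ K := by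
    intro p q hp hq hne hpσ
    refine tr_move hA (hK (p + q) (hp.add hq) (B p q)⁻¹ (inv_mem (hs.bil hp hq))) ?_ hpσ
    rw [tr_apply, map_add, hA p, zero_add, inv_mul_cancel₀ hne, one_smul, ← add_assoc, add_self_two h20, zero_add]
  by_cases hq0 : q = 0
  · rw [hq0]
    exact hK 0 Rat.zero 0 (zero_mem _) |> fun h => by
      convert h using 1
      exact sp_ext fun v => by simp [tr_apply]
  by_cases hne : B p q = 0
  swap
  · exact step hp hq hne hσ
  obtain ⟨h₁, hh₁, hph₁⟩ := hs.partner hp hp0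
  obtain ⟨h₂, hh₂, hqh₂⟩ := hs.partner hq hq0
  obtain ⟨h, hh, hph, hhq⟩ : ∃ h, Rat b F₀ h ∧ B p h ≠ 0 ∧ B h q ≠ 0 := by
    by_cases e₁ : B h₁ q = 0
    · by_cases e₂ : B p h₂ = 0
      · refine ⟨h₁ + h₂, hh₁.add hh₂, by simp [hph₁, e₂], ?_⟩
        rw [map_add, LinearMap.add_apply, e₁, zero_add, swap_two h20 hA q h₂, hqh₂]
        exact one_ne_zero
      · exact ⟨h₂, hh₂, e₂, by rw [swap_two h20 hA q h₂, hqh₂]; exact one_ne_zero⟩
    · exact ⟨h₁, hh₁, by rw [hph₁]; exact one_ne_zero, e₁⟩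
  exact step hh hq hhq (step hp hh hph hσ)

/-! ### The plane homomorphism -/

section Plane

variable {w h : V}

/-- The action on a hyperbolic plane, as a linear map. -/
def planeMap (B : BilinForm F V) (w h : V) (S : Matrix (Fin 2) (Fin 2) F) : V →ₗ[F] V :=
  LinearMap.id + ((S 0 0 - 1) • B.flip h + S 0 1 • B w).smulRight w +
    (S 1 0 • B.flip h + (S 1 1 - 1) • B w).smulRight h

theorem planeMap_apply (S : Matrix (Fin 2) (Fin 2) F) (v : V) :
    planeMap B w h S v = v + ((S 0 0 - 1) * B v h + S 0 1 * B w v) • w +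
      (S 1 0 * B v h + (S 1 1 - 1) * B w v) • h := by
  simp [planeMap, LinearMap.smulRight_apply]

theorem planeMap_mul (hA : B.IsAlt) (hwh : B w h = 1) (S T : Matrix (Fin 2) (Fin 2) F) (v : V) :
    planeMap B w h S (planeMap B w h T v) = planeMap B w h (S * T) v := by
  simp only [planeMap_apply, map_add, LinearMap.map_smul, LinearMap.add_apply, LinearMap.smul_apply, smul_eq_mul,
    hA w, hA h, hwh, Matrix.mul_apply, Fin.sum_univ_two]
  module

theorem planeMap_one (v : V) : planeMap B w h (1 : Matrix (Fin 2) (Fin 2) F) v = v := by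
  simp [planeMap_apply]

/-- The embedding of `SL₂` as the group of a hyperbolic plane. -/
def planeHom (hA : B.IsAlt) (hwh : B w h = 1) : Matrix.SpecialLinearGroup (Fin 2) F →* Sp B where
  toFun S := ⟨LinearEquiv.ofLinear (planeMap B w h (S : Matrix (Fin 2) (Fin 2) F))
      (planeMap B w h ((S⁻¹ : Matrix.SpecialLinearGroup (Fin 2) F) : Matrix (Fin 2) (Fin 2) F))
      (LinearMap.ext fun v => by
        rw [LinearMap.comp_apply, planeMap_mul hA hwh, ← Matrix.SpecialLinearGroup.coe_mul, mul_inv_cancel,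
          Matrix.SpecialLinearGroup.coe_one, planeMap_one, LinearMap.id_apply])
      (LinearMap.ext fun v => by
        rw [LinearMap.comp_apply, planeMap_mul hA hwh, ← Matrix.SpecialLinearGroup.coe_mul, inv_mul_cancel,
          Matrix.SpecialLinearGroup.coe_one, planeMap_one, LinearMap.id_apply]), by
    rw [mem_Iso]
    intro u v
    have hd : (S : Matrix (Fin 2) (Fin 2) F) 0 0 * (S : Matrix (Fin 2) (Fin 2) F) 1 1 -
        (S : Matrix (Fin 2) (Fin 2) F) 0 1 * (S : Matrix (Fin 2) (Fin 2) F) 1 0 = 1 := by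
      rw [← Matrix.det_fin_two]
      exact S.2
    have hhw : B h w = -1 := by rw [swap hA w h, hwh]
    show B (planeMap B w h _ u) (planeMap B w h _ v) = B u v
    simp only [planeMap_apply, map_add, LinearMap.map_smul, LinearMap.add_apply, LinearMap.smul_apply, smul_eq_mul,
      hA w, hA h, hwh, hhw, swap hA w u, swap hA v h]
    linear_combination (B u h * B w v - B w u * B v h) * hd⟩
  map_one' := sp_ext fun v => planeMap_one v
  map_mul' S T := sp_ext fun v => (planeMap_mul hA hwh (S : Matrix (Fin 2) (Fin 2) F) T v).symm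

theorem planeHom_up (h20 : (2 : F) = 0) (hA : B.IsAlt) (hwh : B w h = 1) (σ : F) :
    planeHom hA hwh (SLTwoGen.up σ) = tr hA w σ := sp_ext fun v => by
  show planeMap B w h _ v = _
  rw [planeMap_apply, tr_apply, swap_two h20 hA v w]
  simp [SLTwoGen.up]

theorem planeHom_lo (hA : B.IsAlt) (hwh : B w h = 1) (σ : F) :
    planeHom hA hwh (SLTwoGen.lo σ) = tr hA h σ := sp_ext fun v => by
  show planeMap B w h _ v = _
  rw [planeMap_apply, tr_apply]
  simp [SLTwoGen.lo]

end Plane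

/-- One rational transvection with a scalar outside the subfield gives all of them. -/
theorem all_of_tr [Fintype F] {r : ℕ} (hr : r.Prime) (hcard : Fintype.card F = Nat.card F₀ ^ r)
    (h20 : (2 : F) = 0) (hs : Struct B b F₀ 2) (hK : ∀ w, Rat b F₀ w → ∀ c ∈ F₀, tr hs.alt w c ∈ K) {w : V}
    (hw : Rat b F₀ w) (hw0 : w ≠ 0) {σ : F} (hσ : σ ∉ F₀) (hwσ : tr hs.alt w σ ∈ K) :
    AllTr hs.alt b F₀ K := by
  have hA := hs.alt
  obtain ⟨h, hh, hwh⟩ := hs.partner hw hw0
  let S : AddSubgroup F :=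
    { carrier := {c | ∀ q, Rat b F₀ q → tr hA q c ∈ K}
      zero_mem' := fun q hq => hK q hq 0 (zero_mem _)
      add_mem' := fun {c d} hc hd q hq => by rw [← tr_mul]; exact K.mul_mem (hc q hq) (hd q hq)
      neg_mem' := fun {c} hc q hq => by rw [neg_eq_self_of_two h20]; exact hc q hq }
  have hS₀ : ∀ c ∈ F₀, ∀ d ∈ S, c * d ∈ S := by
    intro c hc d hd q hq
    obtain ⟨e, he, rfl⟩ := exists_sq_of_two h20 hc
    rw [← tr_smul_vec]
    exact hd _ (hq.smul he)
  have hσS : σ ∈ S := fun q hq => tr_rat_transfer h20 hs hK hw hw0 hwσ hq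
  have h1S : (1 : F) ∈ S := fun q hq => hK q hq 1 (one_mem _)
  have hSc : Nat.card F₀ ^ 2 ≤ Nat.card S := by
    rw [sq, ← Nat.card_prod]
    refine Nat.card_le_card_of_injective (fun p : F₀ × F₀ => (⟨(p.1 : F) * 1 + (p.2 : F) * σ,
      S.add_mem (hS₀ _ p.1.2 _ h1S) (hS₀ _ p.2.2 _ hσS)⟩ : S)) fun p p' e => ?_
    have e' := congrArg Subtype.val e
    simp only [mul_one] at e'
    have h2 : (p.2 : F) = p'.2 := by
      by_contra hne
      refine hσ ?_
      have e3 : σ = ((p.1 : F) - p'.1) / ((p'.2 : F) - p.2) := by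
        rw [eq_div_iff (sub_ne_zero.2 fun h => hne h.symm)]
        linear_combination -e'
      rw [e3]
      exact div_mem (sub_mem p.1.2 p'.1.2) (sub_mem p'.2.2 p.2.2)
    exact Prod.ext (Subtype.ext (by linear_combination e' - σ * h2)) (Subtype.ext h2)
  have htop := eq_top_of_root_groups_two F₀ hr hcard (K.comap (planeHom hA hwh)) (one_ne_zero (α := F))
    (by rw [Subgroup.mem_comap, planeHom_up h20]; exact hK w hw 1 (one_mem _)) S hS₀
    (fun c hc => by rw [Subgroup.mem_comap, planeHom_lo]; exact hc h hh) hSc h20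
  intro q hq c
  refine tr_rat_transfer h20 hs hK hw hw0 ?_ hq
  rw [← planeHom_up h20 hA hwh c, ← Subgroup.mem_comap, htop]
  exact Subgroup.mem_top _

/-! ### A Siegel element with a scalar outside the subfield -/

theorem tr_comm (hA : B.IsAlt) {x y : V} (h : B x y = 0) (c d : F) :
    tr hA x c * tr hA y d = tr hA y d * tr hA x c := by
  rw [← mul_inv_eq_iff_eq_mul, conj_tr, tr_fix hA c (by rw [swap hA x y, h, neg_zero])]

theorem sel_tr_comm (hA : B.IsAlt) {x a : V} (hxa : B x a = 0) (c d : F) :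
    sel hA x a c * tr hA x d = tr hA x d * sel hA x a c := by
  rw [← mul_inv_eq_iff_eq_mul, conj_tr]
  congr 1
  rw [sel_apply hA hxa, hA x, hxa]
  module

theorem sel_inv (h20 : (2 : F) = 0) (hA : B.IsAlt) {x a : V} (hxa : B x a = 0) (c : F) :
    sel hA x a c * sel hA x a c = 1 := by
  rw [sel_mul hA hxa, show c + c = 0 by linear_combination c * h20, sel_zero_scalar hA hxa]

theorem sel_mul_sel (h20 : (2 : F) = 0) (hA : B.IsAlt) {x a h : V} (hxa : B x a = 0) (hah : B a h = 1)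
    (hxh : B x h = 0) (μ : F) :
    sel hA x (a + h) μ * sel hA x a μ = sel hA x h μ * tr hA x (μ ^ 2) := by
  have hxah : B x (a + h) = 0 := by simp [hxa, hxh]
  have hax : B a x = 0 := by rw [swap_two h20 hA x a, hxa]
  have hhx : B h x = 0 := by rw [swap_two h20 hA x h, hxh]
  refine sp_ext fun v => ?_
  simp only [Subgroup.coe_mul, LinearEquiv.mul_apply, tr_apply, sel_apply hA hxah, sel_apply hA hxa,
    sel_apply hA hxh, map_add, LinearMap.map_smul, LinearMap.add_apply, LinearMap.smul_apply, smul_eq_mul, hA x,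
    hA a, hxa, hxh, hax, hhx, hah, mul_zero, add_zero, zero_add, mul_one]
  linear_combination (norm := module) (μ * B v x) • add_self_two h20 a + (μ * B v a) • add_self_two h20 x

/-- Normalising the transvection part. -/
theorem twisted_step [Finite F] (h20 : (2 : F) = 0) (hs : Struct B b F₀ 2)
    (hK : ∀ w, Rat b F₀ w → ∀ c ∈ F₀, tr hs.alt w c ∈ K) {x a h : V} (ha : Rat b F₀ a)
    (hh : Rat b F₀ h) (hxa : B x a = 0) (hah : B a h = 1) (hxh : B x h = 0) {μ γ : F}
    (hμ : sel hs.alt x a μ * tr hs.alt x γ ∈ K) : sel hs.alt x a μ * tr hs.alt x (μ ^ 2) ∈ K := by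
  have hA := hs.alt
  have hxah : B x (a + h) = 0 := by simp [hxa, hxh]
  have hgx : (tr hA h 1 : V ≃ₗ[F] V) x = x := tr_fix hA 1 hxh
  have hga : (tr hA h 1 : V ≃ₗ[F] V) a = a + h := by rw [tr_apply, hah, one_mul, one_smul]
  have h1 : sel hA x (a + h) μ * tr hA x γ * (sel hA x a μ * tr hA x γ) ∈ K := by
    refine K.mul_mem ?_ hμ
    have e : tr hA h 1 * (sel hA x a μ * tr hA x γ) * (tr hA h 1)⁻¹ = sel hA x (a + h) μ * tr hA x γ := by
      rw [← conj_mul, sel_conj, conj_tr, hgx, hga]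
    rw [← e]
    exact K.mul_mem (K.mul_mem (hK h hh 1 (one_mem _)) hμ) (K.inv_mem (hK h hh 1 (one_mem _)))
  have e1 : sel hA x (a + h) μ * tr hA x γ * (sel hA x a μ * tr hA x γ) =
      sel hA x h μ * tr hA x (μ ^ 2) := by
    rw [mul_assoc, ← mul_assoc (tr hA x γ), ← sel_tr_comm hA hxa, mul_assoc, tr_mul,
      show γ + γ = 0 by linear_combination γ * h20, tr_zero, mul_one, sel_mul_sel h20 hA hxa hah hxh]
  rw [e1] at h1
  have hsK : tr hA (a + h) 1 ∈ K := hK _ (ha.add hh) 1 (one_mem _)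
  have hsx : (tr hA (a + h) 1 : V ≃ₗ[F] V) x = x := tr_fix hA 1 hxah
  have hsh : (tr hA (a + h) 1 : V ≃ₗ[F] V) h = a := by
    rw [tr_apply, map_add, hA h, add_zero, swap_two h20 hA a h, hah, one_mul, one_smul]
    linear_combination (norm := module) add_self_two h20 h
  have h2 := K.mul_mem (K.mul_mem hsK h1) (K.inv_mem hsK)
  rwa [← conj_mul, sel_conj, conj_tr, hsx, hsh] at h2

/-- Two commuting transvections from a Siegel element. -/
theorem twisted_pair [Finite F] (h20 : (2 : F) = 0) (hs : Struct B b F₀ 2)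
    (hK : ∀ w, Rat b F₀ w → ∀ c ∈ F₀, tr hs.alt w c ∈ K) {x y a h : V} (hx : Rat b F₀ x) (hy : Rat b F₀ y)
    (ha : Rat b F₀ a) (hh : Rat b F₀ h) (hxa : B x a = 0) (hah : B a h = 1) (hxh : B x h = 0)
    (hxy : B x y = 1) (hya : B y a = 0) (hyh : B y h = 0) {μ γ : F}
    (hμ : sel hs.alt x a μ * tr hs.alt x γ ∈ K) :
    tr hs.alt x (μ ^ 2) * tr hs.alt a (μ ^ 2) ∈ K := by
  have hA := hs.alt
  have h1 := twisted_step h20 hs hK ha hh hxa hah hxh hμ
  have hax : B a x = 0 := by rw [swap_two h20 hA x a, hxa]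
  have hay : B a y = 0 := by rw [swap_two h20 hA y a, hya]
  have hst : B (x + a) (y + h) = 0 := by
    simp only [map_add, LinearMap.add_apply, hxy, hxh, hay, hah]
    linear_combination h20
  have hsK : sel hA (x + a) (y + h) 1 ∈ K := sel_mem_rat hA hK (hx.add ha) (hy.add hh) (one_mem _)
  have hsx : (sel hA (x + a) (y + h) 1 : V ≃ₗ[F] V) x = a := by
    rw [sel_apply hA hst]
    simp only [map_add, hA x, hxa, hxy, hxh]
    linear_combination (norm := module) add_self_two h20 x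
  have hsa : (sel hA (x + a) (y + h) 1 : V ≃ₗ[F] V) a = x := by
    rw [sel_apply hA hst]
    simp only [map_add, hA a, hax, hay, hah]
    linear_combination (norm := module) add_self_two h20 a
  have h2 := K.mul_mem h1 (K.mul_mem (K.mul_mem hsK h1) (K.inv_mem hsK))
  rw [← conj_mul, sel_conj, conj_tr, hsx, hsa, sel_symm hA hax] at h2
  have e : sel hA x a μ * tr hA x (μ ^ 2) * (sel hA x a μ * tr hA a (μ ^ 2)) =
      tr hA x (μ ^ 2) * tr hA a (μ ^ 2) := by
    rw [sel_tr_comm hA hxa, mul_assoc, ← mul_assoc (sel hA x a μ), sel_inv h20 hA hxa, one_mul]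
  rwa [e] at h2

theorem twisted_quad [Finite F] (h20 : (2 : F) = 0) (hs : Struct B b F₀ 2)
    (hK : ∀ w, Rat b F₀ w → ∀ c ∈ F₀, tr hs.alt w c ∈ K) {x y a h : V} (hx : Rat b F₀ x) (hy : Rat b F₀ y)
    (ha : Rat b F₀ a) (hh : Rat b F₀ h) (hxa : B x a = 0) (hah : B a h = 1) (hxh : B x h = 0)
    (hxy : B x y = 1) (hya : B y a = 0) (hyh : B y h = 0) {μ γ : F}
    (hμ : sel hs.alt x a μ * tr hs.alt x γ ∈ K) :
    tr hs.alt x (μ ^ 2 + (μ ^ 2) ^ 2) ∈ K := by
  have hA := hs.alt
  set β := μ ^ 2 with hβ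
  have hax : B a x = 0 := by rw [swap_two h20 hA x a, hxa]
  have h1 := twisted_pair h20 hs hK hx hy ha hh hxa hah hxh hxy hya hyh hμ
  have huK : sel hA x h 1 ∈ K := sel_mem_rat hA hK hx hh (one_mem _)
  have hux : (sel hA x h 1 : V ≃ₗ[F] V) x = x := by
    rw [sel_apply hA hxh, hA x, hxh]
    module
  have hua : (sel hA x h 1 : V ≃ₗ[F] V) a = a + (1 : F) • x := by
    rw [sel_apply hA hxh, hax, hah]
    module
  have h2 := K.mul_mem (K.mul_mem (K.mul_mem huK h1) (K.inv_mem huK)) h1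
  rw [← conj_mul, conj_tr, conj_tr, hux, hua, tr_add_smul hA hax, one_pow, mul_one, sel_symm hA hax] at h2
  have e : tr hA x β * (tr hA a β * (tr hA x β * sel hA x a β)) * (tr hA x β * tr hA a β) =
      sel hA x a β * tr hA x β := by
    have c1 := tr_comm hA hxa β β
    have c2 := sel_tr_comm hA hxa β β
    have i1 : tr hA x β * tr hA x β = 1 := by
      rw [tr_mul, show β + β = 0 by linear_combination β * h20, tr_zero]
    have i2 : tr hA a β * tr hA a β = 1 := by
      rw [tr_mul, show β + β = 0 by linear_combination β * h20, tr_zero]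
    have c3 : sel hA x a β * tr hA a β = tr hA a β * sel hA x a β := by
      rw [sel_symm hA hxa, sel_tr_comm hA hax]
    calc _ = tr hA x β * tr hA a β * tr hA x β * (sel hA x a β * tr hA x β) * tr hA a β := by
          simp only [mul_assoc]
      _ = tr hA a β * (tr hA x β * tr hA x β) * (tr hA x β * sel hA x a β) * tr hA a β := by
          rw [c1, c2]; simp only [mul_assoc]
      _ = tr hA a β * tr hA x β * (sel hA x a β * tr hA a β) := by rw [i1, mul_one]; simp only [mul_assoc]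
      _ = tr hA a β * (tr hA x β * tr hA a β) * sel hA x a β := by rw [c3]; simp only [mul_assoc]
      _ = tr hA a β * tr hA a β * (tr hA x β * sel hA x a β) := by rw [c1]; simp only [mul_assoc]
      _ = _ := by rw [i2, one_mul, c2]
  rw [e] at h2
  have h3 := twisted_step h20 hs hK ha hh hxa hah hxh h2
  have h4 := K.mul_mem (K.inv_mem h3) h2
  rw [_root_.mul_inv_rev, mul_assoc, inv_mul_cancel_left, tr_inv, tr_mul, neg_eq_self_of_two h20, add_comm] at h4
  exact h4

/-- A twisted Siegel element gives all rational transvections. -/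
theorem all_of_twisted [Fintype F] {r : ℕ} (hr : r.Prime) (hcard : Fintype.card F = Nat.card F₀ ^ r)
    (h20 : (2 : F) = 0) (hs : Struct B b F₀ 2) (hK : ∀ w, Rat b F₀ w → ∀ c ∈ F₀, tr hs.alt w c ∈ K)
    {x a h : V} (hx : Rat b F₀ x) (ha : Rat b F₀ a) (hh : Rat b F₀ h) (hxa : B x a = 0) (hah : B a h = 1)
    (hxh : B x h = 0) (hx0 : x ≠ 0) {μ γ : F} (hμ0 : μ ∉ F₀)
    (hμ : sel hs.alt x a μ * tr hs.alt x γ ∈ K) : AllTr hs.alt b F₀ K := by
  have hA := hs.alt
  obtain ⟨y₀, hy₀, hxy₀⟩ := hs.partner hx hx0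
  set y := y₀ - B y₀ h • a + B y₀ a • h with hydef
  have hy : Rat b F₀ y := (hy₀.sub (ha.smul (hs.bil hy₀ hh))).add (hh.smul (hs.bil hy₀ ha))
  have hha : B h a = -1 := by rw [swap hA a h, hah]
  have hxy : B x y = 1 := by simp [hydef, hxa, hxh, hxy₀]
  have hya : B y a = 0 := by simp [hydef, hA a, hha]
  have hyh : B y h = 0 := by simp [hydef, hA h, hah]
  set β := μ ^ 2 with hβ
  have hβ0 : β ∉ F₀ := fun hc => hμ0 ((sq_mem_iff_of_two h20).1 hc)
  by_cases hb : β + β ^ 2 ∈ F₀
  swap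
  · exact all_of_tr hr hcard h20 hs hK hx hx0 hb (twisted_quad h20 hs hK hx hy ha hh hxa hah hxh hxy hya hyh hμ)
  by_cases hsc : ∃ c ∈ F₀, c ≠ 0 ∧ (c * μ) ^ 2 + ((c * μ) ^ 2) ^ 2 ∉ F₀
  · obtain ⟨c, hc, hc0, hbad⟩ := hsc
    refine all_of_tr hr hcard h20 hs hK hx hx0 hbad ?_
    have hxy' : B x (x + y) = 1 := by simp [hA x, hxy]
    set k := tr hA (y + c • x) c⁻¹ * tr hA (x + y) 1 with hk
    have hkK : k ∈ K := K.mul_mem (hK _ (hy.add (hx.smul hc)) _ (inv_mem hc)) (hK _ (hx.add hy) 1 (one_mem _))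
    have hkx : (k : V ≃ₗ[F] V) x = c • x := by
      rw [hk, Subgroup.coe_mul, LinearEquiv.mul_apply, tr_apply hA (x + y), hxy', one_mul, one_smul, ← add_assoc,
        add_self_two h20, zero_add, tr_apply, map_add, LinearMap.map_smul, hA y, zero_add, smul_eq_mul,
        swap_two h20 hA x y, hxy, mul_one, inv_mul_cancel₀ hc0, one_smul, ← add_assoc, add_self_two h20, zero_add]
    have hka : (k : V ≃ₗ[F] V) a = a := by
      have hay : B a y = 0 := by rw [swap_two h20 hA y a, hya]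
      have hax : B a x = 0 := by rw [swap_two h20 hA x a, hxa]
      rw [hk, Subgroup.coe_mul, LinearEquiv.mul_apply, tr_fix hA 1 (show B a (x + y) = 0 by simp [hax, hay]),
        tr_fix hA c⁻¹ (show B a (y + c • x) = 0 by simp [hax, hay])]
    have h1 := K.mul_mem (K.mul_mem hkK hμ) (K.inv_mem hkK)
    rw [← conj_mul, sel_conj, conj_tr, hkx, hka, tr_smul_vec] at h1
    refine twisted_quad h20 hs hK hx hy ha hh hxa hah hxh hxy hya hyh (μ := c * μ) (γ := c ^ 2 * γ) ?_
    convert h1 using 2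
    refine sp_ext fun v => ?_
    rw [sel_apply hA hxa, sel_apply hA (show B (c • x) a = 0 by simp [hxa]), LinearMap.map_smul, smul_eq_mul]
    module
  push Not at hsc
  -- now the subfield has two elements
  have h01 : ∀ c ∈ F₀, c = 0 ∨ c = 1 := by
    intro c hc
    by_contra! hne
    have h1 := hsc c hc hne.1
    have h2 := mul_mem (pow_mem hc 4) hb
    have h3 := add_mem h1 h2
    have e : (c * μ) ^ 2 + ((c * μ) ^ 2) ^ 2 + c ^ 4 * (β + β ^ 2) = (c ^ 2 + c ^ 4) * β := by
      rw [hβ]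
      linear_combination (c ^ 4 * μ ^ 4) * h20
    rw [e] at h3
    have hc24 : c ^ 2 + c ^ 4 ≠ 0 := fun h0 => by
      have : c ^ 2 * ((1 + c) * (1 + c)) = 0 := by linear_combination h0 + c ^ 3 * h20
      rcases mul_eq_zero.1 this with h5 | h5
      · exact hne.1 (pow_eq_zero_iff two_ne_zero |>.1 h5)
      · exact hne.2 (by linear_combination (mul_self_eq_zero.1 h5) - h20)
    refine hβ0 ?_
    have e2 : β = (c ^ 2 + c ^ 4) * β / (c ^ 2 + c ^ 4) := (mul_div_cancel_left₀ β hc24).symm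
    rw [e2]
    exact div_mem h3 (add_mem (pow_mem hc 2) (pow_mem hc 4))
  have hb1 : β ^ 2 = β + 1 := by
    rcases h01 _ hb with h0 | h1
    · exfalso
      rcases mul_eq_zero.1 (show β * (1 + β) = 0 by linear_combination h0) with h | h
      · exact hβ0 (h ▸ zero_mem _)
      · exact hβ0 (by rw [show β = 1 by linear_combination h - h20]; exact one_mem _)
    · linear_combination h1 - β * h20
  have hσ : β + 1 ∉ F₀ := fun hc => hβ0 (by simpa using sub_mem hc (one_mem F₀))
  have ha0 : a ≠ 0 := fun h0 => by simp [h0] at hah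
  refine all_of_tr hr hcard h20 hs hK ha ha0 hσ ?_
  have hX := twisted_pair h20 hs hK hx hy ha hh hxa hah hxh hxy hya hyh hμ
  have hsK : tr hA (a + h) 1 ∈ K := hK _ (ha.add hh) 1 (one_mem _)
  have hsx : (tr hA (a + h) 1 : V ≃ₗ[F] V) x = x := tr_fix hA 1 (by simp [hxa, hxh])
  have hsa : (tr hA (a + h) 1 : V ≃ₗ[F] V) a = h := by
    rw [tr_apply, map_add, hA a, zero_add, hah, one_mul, one_smul, ← add_assoc, add_self_two h20, zero_add]
  have hP : tr hA a β * tr hA h β ∈ K := by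
    have h1 := K.mul_mem hX (K.mul_mem (K.mul_mem hsK hX) (K.inv_mem hsK))
    rw [← conj_mul, conj_tr, conj_tr, hsx, hsa] at h1
    convert h1 using 1
    rw [tr_comm hA hxa, mul_assoc, ← mul_assoc (tr hA x _), tr_mul,
      show β + β = 0 by linear_combination β * h20, tr_zero, one_mul]
  have key : SLTwoGen.lo (1 : F) * SLTwoGen.up 1 * (SLTwoGen.up β * SLTwoGen.lo β) *
      (SLTwoGen.up β * SLTwoGen.lo β) = SLTwoGen.up (β + 1) := by
    have eP : ((SLTwoGen.up β * SLTwoGen.lo β : Matrix.SpecialLinearGroup (Fin 2) F) : Matrix (Fin 2) (Fin 2) F) =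
        !![β, β; β, 1] := by
      rw [Matrix.SpecialLinearGroup.coe_mul]
      show !![1, β; 0, 1] * !![1, 0; β, 1] = _
      rw [Matrix.mul_fin_two]
      ext i j
      fin_cases i <;> fin_cases j <;> simp
      linear_combination hb1 + h20
    have eU : ((SLTwoGen.lo (1 : F) * SLTwoGen.up 1 : Matrix.SpecialLinearGroup (Fin 2) F) :
        Matrix (Fin 2) (Fin 2) F) = !![1, 1; 1, 0] := by
      rw [Matrix.SpecialLinearGroup.coe_mul]
      show !![1, 0; 1, 1] * !![1, 1; 0, 1] = _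
      rw [Matrix.mul_fin_two]
      ext i j
      fin_cases i <;> fin_cases j <;> simp
      linear_combination h20
    refine Subtype.ext ?_
    rw [mul_assoc, Matrix.SpecialLinearGroup.coe_mul, eU, Matrix.SpecialLinearGroup.coe_mul, eP, Matrix.mul_fin_two,
      Matrix.mul_fin_two]
    show _ = !![1, β + 1; 0, 1]
    ext i j
    fin_cases i <;> fin_cases j <;> simp
    · linear_combination 3 * hb1 + (2 * β + 1) * h20
    · linear_combination 2 * hb1 + (β + 1) * h20
    · linear_combination 2 * hb1 + (β + 1) * h20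
    · linear_combination hb1 + β * h20
  have hkey := congrArg (planeHom hA hah) key
  rw [map_mul, map_mul, map_mul, map_mul, planeHom_up h20, planeHom_up h20, planeHom_up h20, planeHom_lo,
    planeHom_lo] at hkey
  rw [← hkey]
  exact K.mul_mem (K.mul_mem (K.mul_mem (hK h hh 1 (one_mem _)) (hK a ha 1 (one_mem _))) hP) hP

end CfsgLib.Lie.SpFourEven
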